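import Cfsg.Agent.OddOrder.PF11.NoTypeIV

/-!
# Peterfalvi (11.9) for a minimal simple group of odd order

A maximal subgroup of type P not of Type II is of Type III.
-/

set_option autoImplicit false

namespace Cfsg.Agent.OddOrder.PF11

open Cfsg.Agent

universe u

variable {G : Type u} [Group G] [Fintype G]

/-- A maximal subgroup of type P which is not of Type II. -/
theorem nonII_facts_all (hG : Cfsg.IsMinSimpleOddOrder G) :
    ∀ (M A B C : Subgroup G), IsCoatom M → Cfsg.IsTypePWith M A B C →
      ¬ Cfsg.IsOfTypeII M →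
        Cfsg.IsOfTypeIII M ∧ (Nat.card C).Prime ∧ Nat.card C < Nat.card A ∧
          Nat.card (Cfsg.fittingHallOf M) = Nat.card C ^ Nat.card A ∧
          B ⊓ Subgroup.centralizer (Cfsg.fittingHallOf M : Set G) = ⊥ := by
  intro M A B C hM hP hII
  obtain ⟨hlt, -, hC, -, hcard, hIII⟩ := nonII_structure hG hM hP hII
  exact ⟨hIII, card_W₂_prime hG hM hP hII, hlt, hcard, hC⟩

end Cfsg.Agent.OddOrder.PF11
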