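import Cfsg.Agent.OddOrder.PF4.TypeP
import Cfsg.Agent.OddOrder.PF10.Base
import Cfsg.Agent.OddOrder.PF10.CoverInst
import Cfsg.Agent.OddOrder.PF9.Setting
import Cfsg.Agent.OddOrder.PF9.NonGalois
import Cfsg.Agent.OddOrder.PF13.TypeIIAssembly
import Cfsg.Agent.OddOrder.PF3.Family
import Cfsg.Agent.OddOrder.BG16.Instance
import Cfsg.Agent.S1379

/-!
# From type-P data of a maximal subgroup not of Type II to the settings of Peterfalvi 9-11

Everything lives in `L = M`: `K = M'`, `H = M_F`, and `U`, `W₁`, `W₂` are cut down to subgroups of `M`.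
-/

set_option autoImplicit false
set_option linter.style.haveILetI false
set_option linter.unusedSectionVars false

namespace Cfsg.Agent.OddOrder.PF11

open Subgroup
open Cfsg.Agent Cfsg.Agent.OddOrder

universe u

section General

variable {G : Type u} [Group G] {M : Subgroup G}

theorem card_subgroupOf {A : Subgroup G} (hA : A ≤ M) : Nat.card (A.subgroupOf M) = Nat.card A :=
  Nat.card_congr (subgroupOfEquivOfLe hA).toEquiv

theorem map_derived_subgroupOf {A : Subgroup G} (hA : A ≤ M) :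
    (⁅A.subgroupOf M, A.subgroupOf M⁆ : Subgroup M).map M.subtype = ⁅A, A⁆ := by
  rw [Subgroup.map_commutator, map_subgroupOf_eq_of_le hA]

/-- The section centraliser inside `M`. -/
theorem sectionCent_subgroupOf {A B : Subgroup G} (hA : A ≤ M) (hAn : M ≤ normalizer (A : Set G))
    (hBn : M ≤ normalizer (B : Set G)) [(A.subgroupOf M).Normal] [(B.subgroupOf M).Normal] (x : M) :
    x ∈ sectionCent (A.subgroupOf M) (B.subgroupOf M) ↔ (x : G) ∈ sectionCent A B := by
  rw [PF9.mem_sectionCent_iff, mem_sectionCent (hAn x.2) (hBn x.2)]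
  constructor
  · intro h a ha
    have := h ⟨a, hA ha⟩ ha
    simpa [mem_subgroupOf] using this
  · intro h a ha
    have := h a (mem_subgroupOf.1 ha)
    simpa [mem_subgroupOf] using this

theorem relIndex_sectionCent {A B V : Subgroup G} (hA : A ≤ M) (hV : V ≤ M)
    (hAn : M ≤ normalizer (A : Set G)) (hBn : M ≤ normalizer (B : Set G))
    [(A.subgroupOf M).Normal] [(B.subgroupOf M).Normal] :
    (sectionCent (A.subgroupOf M) (B.subgroupOf M)).relIndex (V.subgroupOf M) =
      (sectionCent A B).relIndex V := by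
  rw [← relIndex_subgroupOf (H := sectionCent A B) hV]
  congr 1
  ext x
  rw [mem_subgroupOf]
  exact sectionCent_subgroupOf hA hAn hBn x

theorem normalizer_subgroupOf {A B : Subgroup G} (h : A ≤ normalizer (B : Set G)) :
    A.subgroupOf M ≤ normalizer ((B.subgroupOf M : Subgroup M) : Set M) := by
  rw [le_normalizer_iff]
  intro a ha b hb
  rw [mem_subgroupOf] at hb ⊢
  simpa using Coprime.conj_mem (h (mem_subgroupOf.1 ha)) hb

theorem normalizer_map_of_subgroupOf {A : Subgroup G} (hA : A ≤ M) {B : Subgroup M}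
    (h : A.subgroupOf M ≤ normalizer (B : Set M)) :
    A ≤ normalizer ((B.map M.subtype : Subgroup G) : Set G) := by
  rw [le_normalizer_iff]
  rintro a ha _ ⟨b, hb, rfl⟩
  exact ⟨⟨a, hA ha⟩ * b * ⟨a, hA ha⟩⁻¹,
    Coprime.conj_mem (h (show (⟨a, hA ha⟩ : M) ∈ A.subgroupOf M from ha)) hb, rfl⟩

end General

variable {G : Type u} [Group G] [Finite G] {M U W₁ W₂ : Subgroup G}

section

variable (hG : Cfsg.IsMinSimpleOddOrder G) (hM : IsCoatom M) (hP : Cfsg.IsTypePWith M W₁ U W₂)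
  (hII : ¬ Cfsg.IsOfTypeII M)
include hG hM hP hII

theorem typeCore_eq_derived : Cfsg.typeCore M = ⁅M, M⁆ := by
  have F := BG16.sectionFacts hG
  rw [BG16.typeCore_eq hG F hM, (PF10.nonII_facts hG F hM hP hII).1]

/-- The non-trivial elements of `M'` are in `A₀(M)`. -/
theorem mem_setA0 {k : G} (hk : k ∈ ⁅M, M⁆) (hk1 : k ≠ 1) : k ∈ setA0 M := by
  have hc := typeCore_eq_derived hG hM hP hII
  have hkM : k ∈ M := TypeP.derived_le M hk
  refine (PF4.suppHyp_of_typeP hP).mem ⟨k, hkM⟩ ?_ (fun e => hk1 (congrArg Subtype.val e))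
    ⟨k, hkM⟩ ?_ (fun e => hk1 (congrArg Subtype.val e)) rfl
  · exact hk
  · show k ∈ Cfsg.typeCore M
    rwa [hc]

/-- (1) The setting of section 10 for `M`. -/
theorem exists_base [Fintype G] :
    ∃ χ, PF10.Base (⁅M, M⁆.subgroupOf M) (W₁.subgroupOf M) (W₂.subgroupOf M) (setA0 M)
      (Cfsg.supportR M) χ := by
  have F := BG16.sectionFacts hG
  have d := PF4.dadeHyp_of_typeP hG.1 hP (PF10.dade_of_facts hG F hM)
  obtain ⟨χ, hχ⟩ := PF3.exists_family d.selfNorm d.odd
  have hs := PF4.suppHyp_of_typeP hP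
  rw [typeCore_eq_derived hG hM hP hII] at hs
  have hsol : Group.IsSolvable M := hG.2.2.2 M hM.1
  refine ⟨χ, d, hχ, hs, hG.1.of_dvd_nat M.card_subgroup_dvd_card, inferInstance, fun x hx => ?_⟩
  have h1 : (x : G) ∈ ⁅⁅M, M⁆, ⁅M, M⁆⁆ := (hP.W₂_le (mem_subgroupOf.1 hx)).2
  rw [← map_derived_subgroupOf (TypeP.derived_le M)] at h1
  obtain ⟨y, hy, e⟩ := h1
  exact (Subtype.ext e : y = x) ▸ hy

/-- The mate of `M` is of Type II, with data `(W₂, V, W₁)`. -/
theorem exists_mate :
    ∃ S V : Subgroup G, IsCoatom S ∧ Cfsg.IsOfTypeII S ∧ Cfsg.IsTypePWith S W₂ V W₁ := by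
  have F := BG16.sectionFacts hG
  obtain ⟨-, hd, hst, -⟩ := PF10.nonII_facts hG F hM hP hII
  have I := BG14.inputs hG
  obtain ⟨S, ⟨hS, hSst, hShall⟩, -⟩ := BG14.partner_unique I hM hd hP.W₁_ne
  obtain ⟨hU, -⟩ := BG14.two_classes I hM hd hP.W₁_ne hS hSst
  replace hU := hU.resolve_left fun h => h rfl
  have hkst : BG14.kStar M W₁ = W₂ := hst
  rw [hkst] at hShall hSst hU
  haveI : IsCyclic W₂ := (F.s1351 S hS).2 _ hShall
  obtain ⟨V, hdS⟩ := (F.s1352 S hS W₂ inferInstance hShall).1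
  have hW₂ : W₂ ≠ ⊥ := hP.selfNormalizing.2.1
  obtain ⟨D, hD, -⟩ := BG16.exists_typePWith hG F hS hdS hW₂
  refine ⟨S, D, hS, (BG16.classification hG F hS hdS).2.1.2 ⟨hW₂, hU V hdS⟩, ?_⟩
  rw [hSst]
  exact hD

/-- (2) `|W₂|` is prime. -/
theorem card_W₂_prime : (Nat.card W₂).Prime := by
  obtain ⟨S, V, -, hSII, hSP⟩ := exists_mate hG hM hP hII
  exact (PF13.typeII_facts hSP hSII).2.1

theorem three_le_card_W₂ : 3 ≤ Nat.card W₂ := by
  have h := card_W₂_prime hG hM hP hII
  obtain ⟨k, hk⟩ : Odd (Nat.card W₂) := hG.1.of_dvd_nat W₂.card_subgroup_dvd_card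
  have := h.two_le
  omega

/-- For `U ≠ 1`, `M` is of Type III or IV. -/
theorem typeIII_or_IV (hU : U ≠ ⊥) : Cfsg.IsOfTypeIII M ∨ Cfsg.IsOfTypeIV M := by
  have F := BG16.sectionFacts hG
  obtain ⟨-, hd, -, -⟩ := PF10.nonII_facts hG F hM hP hII
  rcases BG16.type_P_cases hG F hM hd hP.W₁_ne with h | h | h | h
  · exact absurd h hII
  · exact Or.inl h
  · exact Or.inr h
  · obtain ⟨W₁', U', W₂', hP', hU', -⟩ := h
    obtain ⟨m, -, -, rfl, -⟩ := TypeP.conj_data hP hP'
    exact absurd ((map_eq_bot_iff_of_injective _ (MulAut.conj m).injective).1 hU') hU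

/-- For `U ≠ 1`, `|W₁|` is prime. -/
theorem card_W₁_prime (hU : U ≠ ⊥) : (Nat.card W₁).Prime := by
  rcases typeIII_or_IV hG hM hP hII hU with ⟨W₁', U', W₂', hP', -, hpr, -⟩ |
      ⟨W₁', U', W₂', hP', -, hpr, -⟩ <;>
  · obtain ⟨m, -, hW, -⟩ := TypeP.conj_data hP hP'
    rwa [hW, Coprime.card_map_conj] at hpr

end

theorem core_nilpotent_subgroupOf (M : Subgroup G) :
    Group.IsNilpotent ↥((Cfsg.fittingHallOf M).subgroupOf M) :=
  (Group.isNilpotent_congr (subgroupOfEquivOfLe (TypeP.core_le M))).2 (TypeP.core_nilpotent M)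

section

variable (hP : Cfsg.IsTypePWith M W₁ U W₂) {H₀ : Subgroup G}
  (hk : CoreKernel M U H₀)
include hP hk

/-- The setting of section 9 for `M`. -/
theorem setting_of_core (hodd : Odd (Nat.card G)) (hq : (Nat.card W₁).Prime) {p : ℕ} (hp : p.Prime)
    (hpow : ∀ h ∈ Cfsg.fittingHallOf M, h ^ p ∈ H₀)
    (hidx : H₀.relIndex (Cfsg.fittingHallOf M) = p ^ Nat.card W₁) (hW₂ : H₀.relIndex W₂ = p) :
    PF9.Setting (⁅M, M⁆.subgroupOf M) ((Cfsg.fittingHallOf M).subgroupOf M) (H₀.subgroupOf M)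
      (U.subgroupOf M) (W₁.subgroupOf M) (W₂.subgroupOf M) p (Nat.card W₁) := by
  have hHM := TypeP.core_le M
  have hMH := TypeP.le_normalizer_core M
  have hH₀M : H₀ ≤ M := hk.le.trans hHM
  have hUM := TypeP.U_le hP
  haveI hHn : ((Cfsg.fittingHallOf M).subgroupOf M).Normal :=
    (normal_subgroupOf_iff_le_normalizer hHM).2 hMH
  haveI hH₀n : (H₀.subgroupOf M).Normal :=
    (normal_subgroupOf_iff_le_normalizer hH₀M).2 hk.normal
  refine
    { hyp := PF4.hyp_of_typeP hodd hP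
      odd := hodd.of_dvd_nat M.card_subgroup_dvd_card
      H_normal := hHn
      H₀_normal := hH₀n
      le := fun x hx => hk.le hx
      H_le := fun x hx => TypeP.core_le_derived hP hx
      U_le := fun x hx => TypeP.U_le_derived hP hx
      inf := ?_
      sup := ?_
      coprime := ?_
      norm_U := normalizer_subgroupOf hP.U_normal
      U_nil := (Group.isNilpotent_congr (subgroupOfEquivOfLe hUM)).2 hP.U_nilpotent
      W₂_le := fun x hx => TypeP.W₂_le_core hP hx
      p_prime := hp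
      q_prime := hq
      card_W₁ := card_subgroupOf (TypeP.W₁_le hP)
      index_H := ?_
      index_W₂ := ?_
      pow_mem := fun h hh => ?_
      comm := ?_
      maximal := ?_
      derived := ?_
      cent := ?_ }
  · rw [eq_bot_iff]
    intro x hx
    have h : (x : G) ∈ Cfsg.fittingHallOf M ⊓ U := hx
    rw [hP.U_compl.2.2.1, mem_bot] at h
    exact mem_bot.2 (Subtype.ext h)
  · rw [← subgroupOf_sup hHM hUM]
    congr 1
    refine le_antisymm (sup_le (TypeP.core_le_derived hP) (TypeP.U_le_derived hP)) fun x hx => ?_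
    obtain ⟨a, ha, c, hc, rfl⟩ := hP.U_compl.2.2.2 x hx
    exact mul_mem_sup ha hc
  · rw [card_subgroupOf hHM, card_subgroupOf hUM]
    exact TypeP.coprime_core_U hP
  · rw [relIndex_subgroupOf hHM, hidx]
  · rw [relIndex_subgroupOf (TypeP.W₂_le hP), hW₂]
  · rw [mem_subgroupOf, Subgroup.coe_pow]
    exact hpow _ (mem_subgroupOf.1 hh)
  · intro x hx
    refine mem_subgroupOf.2 (hk.comm ?_)
    rw [← map_derived_subgroupOf hHM]
    exact ⟨x, hx, rfl⟩
  · intro N hN h1 h2
    have h1' : H₀ ≤ N.map M.subtype := by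
      rw [← map_subgroupOf_eq_of_le hH₀M]
      exact map_mono h1
    have h2' : N.map M.subtype ≤ Cfsg.fittingHallOf M := by
      rw [← map_subgroupOf_eq_of_le hHM]
      exact map_mono h2
    have h3 : M ≤ normalizer ((N.map M.subtype : Subgroup G) : Set G) :=
      normalizer_map_of_subgroupOf le_rfl (by rw [normalizer_eq_top]; exact le_top)
    rcases hk.maximal _ h1' h2' h3 with h | h
    · exact Or.inl (map_injective M.subtype_injective (h.trans (map_subgroupOf_eq_of_le hH₀M).symm))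
    · exact Or.inr (map_injective M.subtype_injective (h.trans (map_subgroupOf_eq_of_le hHM).symm))
  · intro x hx
    rw [sectionCent_subgroupOf hHM hMH hk.normal]
    have hxC : (x : G) ∈ centralizer (Cfsg.fittingHallOf M : Set G) := by
      refine (S1388.result M W₁ U W₂ hP).1 ?_
      rw [← map_derived_subgroupOf hUM]
      exact ⟨x, hx, rfl⟩
    refine (mem_sectionCent (hMH x.2) (hk.normal x.2)).2 fun h hh => ?_
    rw [← mem_centralizer_iff.1 hxC h hh, mul_inv_cancel_right, mul_inv_cancel]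
    exact one_mem _
  · intro hle
    refine hk.ne (le_antisymm hk.le fun h hh => ?_)
    have h1 := (Coprime.centralizer_sup_eq (hUM.trans hMH) (TypeP.coprime_core_U hP).symm
      (Or.inl (TypeP.U_solvable hP)) hk.le (hHM.trans hk.normal) (hUM.trans hk.normal) hh).1
      fun a ha => ((sectionCent_subgroupOf hHM hMH hk.normal ⟨a, hUM ha⟩).1 (hle ha)).2.2 h hh
    rwa [sup_eq_right.2 hk.centralizer_le] at h1

/-- The Galois case: `U` is irreducible on `H / H₀` and cyclic modulo its kernel. -/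
theorem galois_of_core {p : ℕ} (h : CoreGalois M W₁ U W₂ H₀ p) :
    (∀ B : Subgroup M, H₀.subgroupOf M ≤ B → B ≤ (Cfsg.fittingHallOf M).subgroupOf M →
        U.subgroupOf M ≤ normalizer (B : Set M) →
          B = H₀.subgroupOf M ∨ B = (Cfsg.fittingHallOf M).subgroupOf M) ∧
      ∃ g ∈ U.subgroupOf M, ∀ b ∈ U.subgroupOf M, ∃ i : ℕ,
        (g ^ i)⁻¹ * b ∈ sectionCent ((Cfsg.fittingHallOf M).subgroupOf M) (H₀.subgroupOf M) := by
  obtain ⟨F, iF, iFin, f, ψ, σ, -, -, -, -, -, -, -, -, -, -, hirr, -, -, g, hg, hgen⟩ := h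
  have hHM := TypeP.core_le M
  have hMH := TypeP.le_normalizer_core M
  have hH₀M : H₀ ≤ M := hk.le.trans hHM
  have hUM := TypeP.U_le hP
  haveI : ((Cfsg.fittingHallOf M).subgroupOf M).Normal :=
    (normal_subgroupOf_iff_le_normalizer hHM).2 hMH
  haveI : (H₀.subgroupOf M).Normal :=
    (normal_subgroupOf_iff_le_normalizer hH₀M).2 hk.normal
  refine ⟨fun B h1 h2 h3 => ?_, ⟨g, hUM hg⟩, hg, fun b hb => ?_⟩
  · have h1' : H₀ ≤ B.map M.subtype := by
      rw [← map_subgroupOf_eq_of_le hH₀M]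
      exact map_mono h1
    have h2' : B.map M.subtype ≤ Cfsg.fittingHallOf M := by
      rw [← map_subgroupOf_eq_of_le hHM]
      exact map_mono h2
    rcases hirr _ h1' h2' (normalizer_map_of_subgroupOf hUM h3) with h | h
    · exact Or.inl (map_injective M.subtype_injective (h.trans (map_subgroupOf_eq_of_le hH₀M).symm))
    · exact Or.inr (map_injective M.subtype_injective (h.trans (map_subgroupOf_eq_of_le hHM).symm))
  · obtain ⟨i, hi⟩ := hgen b hb
    refine ⟨i, (sectionCent_subgroupOf hHM hMH hk.normal _).2 ?_⟩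
    simpa using hi

/-- The split case: a line `N₁`, its index `a'`, and `a ∣ p - 1` with `|U : C| ∣ a ^ (q - 1)`. -/
theorem lines_of_core {p : ℕ} (h : CoreSplit M W₁ U H₀ p) :
    ∃ N₁ a' a, PF9.Lines ((Cfsg.fittingHallOf M).subgroupOf M) (H₀.subgroupOf M) (U.subgroupOf M)
        (W₁.subgroupOf M) N₁ p a' ∧ a ∣ p - 1 ∧
      (sectionCent ((Cfsg.fittingHallOf M).subgroupOf M) (H₀.subgroupOf M)).relIndex
        (U.subgroupOf M) ∣ a ^ (Nat.card W₁ - 1) := by
  obtain ⟨N, a, h1, h2, h3, h4, h5, ha, -, -, hu⟩ := h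
  have hHM := TypeP.core_le M
  have hMH := TypeP.le_normalizer_core M
  have hH₀M : H₀ ≤ M := hk.le.trans hHM
  have hUM := TypeP.U_le hP
  have hNM : N ≤ M := h2.trans hHM
  have hWM := TypeP.W₁_le hP
  haveI : ((Cfsg.fittingHallOf M).subgroupOf M).Normal :=
    (normal_subgroupOf_iff_le_normalizer hHM).2 hMH
  haveI : (H₀.subgroupOf M).Normal :=
    (normal_subgroupOf_iff_le_normalizer hH₀M).2 hk.normal
  refine ⟨N.subgroupOf M, _, a, ⟨fun x hx => h1 hx, fun x hx => h2 hx, normalizer_subgroupOf h3,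
    by rw [relIndex_subgroupOf hNM, h4], ?_, rfl⟩, ha,
    by rwa [relIndex_sectionCent hHM hUM hMH hk.normal]⟩
  apply map_injective M.subtype_injective
  have hconj : ∀ x : W₁.subgroupOf M,
      ((N.subgroupOf M).map (MulAut.conj (x : M)).toMonoidHom).map M.subtype =
        N.map (MulAut.conj ((x : M) : G)).toMonoidHom := by
    intro x
    conv_rhs => rw [← map_subgroupOf_eq_of_le hNM]
    rw [Subgroup.map_map, Subgroup.map_map]
    rfl
  rw [map_subgroupOf_eq_of_le hHM, Subgroup.map_iSup, h5]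
  simp only [hconj]
  exact le_antisymm
    (iSup_le fun x => le_iSup_of_le ⟨⟨x, hWM x.2⟩, x.2⟩ le_rfl)
    (iSup_le fun x => le_iSup_of_le ⟨((x : M) : G), x.2⟩ le_rfl)

end

section

variable (hG : Cfsg.IsMinSimpleOddOrder G) (hM : IsCoatom M) (hP : Cfsg.IsTypePWith M W₁ U W₂)
  (hII : ¬ Cfsg.IsOfTypeII M)
include hG hM hP hII

/-- (3) The setting of section 9 with `p = |W₂|`, and the case split. -/
theorem exists_setting (hU : U ≠ ⊥) :
    ∃ H₀ : Subgroup M,
      PF9.Setting (⁅M, M⁆.subgroupOf M) ((Cfsg.fittingHallOf M).subgroupOf M) H₀ (U.subgroupOf M)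
        (W₁.subgroupOf M) (W₂.subgroupOf M) (Nat.card W₂) (Nat.card W₁) ∧
      Nat.card (W₂.subgroupOf M) = Nat.card W₂ ∧
      Group.IsNilpotent ↥((Cfsg.fittingHallOf M).subgroupOf M) ∧
      (((∀ B : Subgroup M, H₀ ≤ B → B ≤ (Cfsg.fittingHallOf M).subgroupOf M →
            U.subgroupOf M ≤ normalizer (B : Set M) →
              B = H₀ ∨ B = (Cfsg.fittingHallOf M).subgroupOf M) ∧
          ∃ g ∈ U.subgroupOf M, ∀ b ∈ U.subgroupOf M, ∃ i : ℕ,
            (g ^ i)⁻¹ * b ∈ sectionCent ((Cfsg.fittingHallOf M).subgroupOf M) H₀) ∨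
        ∃ N₁ a' a, PF9.Lines ((Cfsg.fittingHallOf M).subgroupOf M) H₀ (U.subgroupOf M)
            (W₁.subgroupOf M) N₁ (Nat.card W₂) a' ∧ a ∣ Nat.card W₂ - 1 ∧
          (sectionCent ((Cfsg.fittingHallOf M).subgroupOf M) H₀).relIndex (U.subgroupOf M) ∣
            a ^ (Nat.card W₁ - 1)) := by
  have hq := card_W₁_prime hG hM hP hII hU
  obtain ⟨H₀, hk⟩ := exists_coreKernel hP hU
  obtain ⟨p, hp, hpow, hidx, hW₂, hcase⟩ := core_chief hP hq hk
  have hpW : p = Nat.card W₂ :=
    (Nat.prime_dvd_prime_iff_eq hp (card_W₂_prime hG hM hP hII)).1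
      (hW₂ ▸ relIndex_dvd_card H₀ W₂)
  subst hpW
  refine ⟨H₀.subgroupOf M, setting_of_core hP hk hG.1 hq hp hpow hidx hW₂,
    card_subgroupOf (TypeP.W₂_le hP), core_nilpotent_subgroupOf M, ?_⟩
  rcases hcase with h | h
  · exact Or.inl (galois_of_core hP hk h)
  · exact Or.inr (lines_of_core hP hk h)

/-- (4) The cover of section 10, in the form taken by `PF10.Base.false_of_coherent`. -/
theorem cover_of_typeP [Fintype G] :
    Nonempty (PF10.Cover
      (H43.dadeSupp ((↑((⁅M, M⁆.subgroupOf M).map M.subtype) : Set G) \ {1}) (Cfsg.supportR M))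
      ((W₁.subgroupOf M).map M.subtype) ((W₂.subgroupOf M).map M.subtype)
      (Nat.card W₂) (Nat.card W₁)) := by
  rw [map_subgroupOf_eq_of_le (TypeP.derived_le M), map_subgroupOf_eq_of_le (TypeP.W₁_le hP),
    map_subgroupOf_eq_of_le (TypeP.W₂_le hP)]
  exact PF10.cover_nonempty hG (BG16.sectionFacts hG) (S1379.result hG).2.2 hM hP hII rfl rfl

end

end Cfsg.Agent.OddOrder.PF11
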