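import Cfsg.Agent.OddOrder.PF11.TypeVExcept
import Cfsg.Agent.OddOrder.PF11.Transfer
import Cfsg.Agent.OddOrder.BG16.Exclusive

/-!
# Peterfalvi section 11: no maximal subgroup is of Type V
-/

set_option autoImplicit false
set_option linter.style.haveILetI false

namespace Cfsg.Agent.OddOrder.PF11

open Cfsg.Agent

universe u

variable {G : Type u} [Group G] [Fintype G]

/-- No maximal subgroup is of Type V. -/
theorem not_isOfTypeV (hG : Cfsg.IsMinSimpleOddOrder G) {M : Subgroup G} (hM : IsCoatom M) :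
    ¬ Cfsg.IsOfTypeV M := by
  classical
  rintro ⟨W₁, U, W₂, hP, hU, hV⟩
  let : Fintype M := Fintype.ofFinite M
  have hII : ¬ Cfsg.IsOfTypeII M := fun h => BG16.typeII_U_ne_bot h hP hU
  obtain ⟨χ, b⟩ := exists_base hG hM hP hII
  obtain ⟨cv⟩ := PF10.cover_nonempty hG (BG16.sectionFacts hG) (S1379.result hG).2.2 hM hP hII
    (W₁ := W₁) (W₂ := W₂) rfl rfl
  exact not_typeV hG hM hP hU b (fun a ha => PF8.supportR_eq_bot ha)
    (card_W₂_prime hG hM hP hII) hV subset_rfl cv

end Cfsg.Agent.OddOrder.PF11
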