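import Cfsg.Agent.OddOrder.PF11.Main
import Cfsg.Agent.OddOrder.PF11.NoTypeV
import Cfsg.Agent.OddOrder.PF11.Transfer
import Cfsg.Agent.OddOrder.PF10.Noncoherence

/-!
# Peterfalvi (11.9): a maximal subgroup not of Type II is of Type III
-/

set_option autoImplicit false
set_option linter.style.haveILetI false

namespace Cfsg.Agent.OddOrder.PF11

open Cfsg.Agent

universe u

/-- The size condition of (10.8). -/
theorem pow_bounds {p q u : ℕ} (hp : 3 ≤ p) (hq : 3 ≤ q) (hu : 3 ≤ u) :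
    (2 * q + 1) * p ≤ p ^ q * u ∧ (q = 3 → 8 * p ≤ p ^ q * u) := by
  obtain ⟨k, rfl⟩ : ∃ k, q = k + 3 := ⟨q - 3, by omega⟩
  have h1 : ∀ k : ℕ, 2 * k + 8 ≤ 3 ^ (k + 2) := by
    intro k
    induction k with
    | zero => norm_num
    | succ k ih => rw [pow_succ]; omega
  have h3 : 3 ^ (k + 2) * p ≤ p ^ (k + 3) := by
    rw [pow_succ p (k + 2)]
    exact Nat.mul_le_mul_right p (Nat.pow_le_pow_left hp _)
  have h4 : (2 * k + 8) * p ≤ p ^ (k + 3) * u :=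
    ((Nat.mul_le_mul_right p (h1 k)).trans h3).trans (Nat.le_mul_of_pos_right _ (by omega))
  exact ⟨(Nat.mul_le_mul_right p (by omega)).trans h4,
    fun _ => (Nat.mul_le_mul_right p (by omega)).trans h4⟩

variable {G : Type u} [Group G] [Fintype G] {M U W₁ W₂ : Subgroup G}

section

variable (hG : Cfsg.IsMinSimpleOddOrder G) (hM : IsCoatom M)
  (hP : Cfsg.IsTypePWith M W₁ U W₂) (hII : ¬ Cfsg.IsOfTypeII M)
include hG hM hP hII

/-- `U ≠ 1`, as `M` is not of Type V. -/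
theorem U_ne_bot : U ≠ ⊥ := by
  intro hU
  have hV := not_isOfTypeV hG hM
  obtain ⟨-, hd, -, -⟩ := PF10.nonII_facts hG (BG16.sectionFacts hG) hM hP hII
  rcases BG16.type_P_cases hG (BG16.sectionFacts hG) hM hd hP.W₁_ne with h | h | h | h
  · exact hII h
  · obtain ⟨W₁', U', W₂', hP', hne, -⟩ := h
    obtain ⟨m, -, -, rfl, -⟩ := TypeP.conj_data hP hP'
    exact hne (by rw [hU, Subgroup.map_bot])
  · obtain ⟨W₁', U', W₂', hP', hne, -⟩ := h
    obtain ⟨m, -, -, rfl, -⟩ := TypeP.conj_data hP hP'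
    exact hne (by rw [hU, Subgroup.map_bot])
  · exact hV h

/-- Peterfalvi (11.9). -/
theorem nonII_structure :
    Nat.card W₂ < Nat.card W₁ ∧ IsMulCommutative U ∧
      U ⊓ Subgroup.centralizer (Cfsg.fittingHallOf M : Set G) = ⊥ ∧
      Cfsg.IsElementaryAbelian (Nat.card W₂) (Cfsg.fittingHallOf M) ∧
      Nat.card (Cfsg.fittingHallOf M) = Nat.card W₂ ^ Nat.card W₁ ∧ Cfsg.IsOfTypeIII M := by
  classical
  letI : Fintype M := Fintype.ofFinite M
  have hU := U_ne_bot hG hM hP hII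
  obtain ⟨χ, b⟩ := exists_base hG hM hP hII
  obtain ⟨H₀, s, hc2, hnil, hcase⟩ := exists_setting hG hM hP hII hU
  have hHM := TypeP.core_le M
  have hUM := TypeP.U_le hP
  have c1 : Nat.card (W₁.subgroupOf M) = Nat.card W₁ := card_subgroupOf (TypeP.W₁_le hP)
  have e1 := Subgroup.map_subgroupOf_eq_of_le (TypeP.W₁_le hP)
  have e2 := Subgroup.map_subgroupOf_eq_of_le (TypeP.W₂_le hP)
  have eK := Subgroup.map_subgroupOf_eq_of_le (TypeP.derived_le M)
  have hK : Nat.card (Cfsg.fittingHallOf M) * Nat.card U = Nat.card (⁅M, M⁆.subgroupOf M) := by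
    rw [card_subgroupOf (TypeP.derived_le M), TypeP.card_derived hP]
  have hpq : Nat.card W₂ ^ Nat.card W₁ ≤ Nat.card (Cfsg.fittingHallOf M) := by
    rw [← card_subgroupOf hHM, ← s.index_H]
    exact Nat.le_of_dvd Nat.card_pos (Subgroup.relIndex_dvd_card _ _)
  have hu3 : 3 ≤ Nat.card U := by
    obtain ⟨k, hk⟩ : Odd (Nat.card U) := hG.1.of_dvd_nat U.card_subgroup_dvd_card
    have : Nat.card U ≠ 1 := fun h => hU (Subgroup.card_eq_one.1 h)
    omega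
  have hp3 := three_le_card_W₂ hG hM hP hII
  obtain ⟨hb1, hb2⟩ := pow_bounds hp3 (c1 ▸ b.three_le) hu3
  have hnc : ¬ Cfsg.IsCoherent (Cfsg.inducedIrrAbove (⁅M, M⁆.subgroupOf M) ⊥) ({1}ᶜ : Set M)
      (Cfsg.dadeIsometry (setA0 M) M (Cfsg.supportR M)) := by
    intro hcoh
    obtain ⟨cv⟩ := PF10.cover_nonempty hG (BG16.sectionFacts hG) (S1379.result hG).2.2 hM hP hII
      (W₁ := W₁) (W₂ := W₂) rfl rfl
    refine b.false_of_coherent hcoh
      (P := H43.dadeSupp ((↑⁅M, M⁆ : Set G) \ {1}) (Cfsg.supportR M)) (by rw [eK])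
      (p := Nat.card W₂) (q := Nat.card W₁) (by rw [e1, e2]; exact cv) hp3 c1 ?_ fun h => ?_
    · rw [← hK]
      exact hb1.trans (Nat.mul_le_mul_right _ hpq)
    · rw [← hK]
      exact (hb2 h).trans (Nat.mul_le_mul_right _ hpq)
  have hch : ChiefCase ((Cfsg.fittingHallOf M).subgroupOf M) H₀ (U.subgroupOf M) (W₁.subgroupOf M)
      (Nat.card W₂) (Nat.card W₁) := by
    rcases hcase with h | ⟨N₁, a', a, hl, ha, hu⟩
    · exact Or.inl h
    · exact Or.inr ⟨⟨N₁, a', hl⟩, a, ha, hu⟩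
  obtain ⟨hlt, hUc, hC, ⟨hHc, hHp⟩, hHcard⟩ := nonII_core b s hc2 hnil hnc hch
  have hUab : IsMulCommutative U := ⟨⟨fun x y => Subtype.ext (by
    have h := hUc.is_comm.comm
      (⟨⟨x, hUM x.2⟩, x.2⟩ : U.subgroupOf M) (⟨⟨y, hUM y.2⟩, y.2⟩ : U.subgroupOf M)
    exact congrArg (fun z : U.subgroupOf M => ((z : M) : G)) h)⟩⟩
  have hH : Nat.card (Cfsg.fittingHallOf M) = Nat.card W₂ ^ Nat.card W₁ := by
    rw [← card_subgroupOf hHM, hHcard]
  refine ⟨hlt, hUab, ?_, ⟨⟨⟨fun x y => Subtype.ext ?_⟩⟩, fun a ha => ?_⟩, hH, ?_⟩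
  · refine eq_bot_iff.2 fun x hx => ?_
    have h : (⟨x, hUM hx.1⟩ : M) ∈ U.subgroupOf M ⊓
        Subgroup.centralizer (((Cfsg.fittingHallOf M).subgroupOf M : Subgroup M) : Set M) :=
      ⟨hx.1, Subgroup.mem_centralizer_iff.2 fun y hy =>
        Subtype.ext (Subgroup.mem_centralizer_iff.1 hx.2 _ hy)⟩
    rw [hC, Subgroup.mem_bot] at h
    exact Subgroup.mem_bot.2 (congrArg Subtype.val h)
  · have h := hHc.is_comm.comm
      (⟨⟨x, hHM x.2⟩, x.2⟩ : (Cfsg.fittingHallOf M).subgroupOf M)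
      (⟨⟨y, hHM y.2⟩, y.2⟩ : (Cfsg.fittingHallOf M).subgroupOf M)
    exact congrArg (fun z : (Cfsg.fittingHallOf M).subgroupOf M => ((z : M) : G)) h
  · exact congrArg Subtype.val (hHp ⟨a, hHM ha⟩ ha)
  · refine (typeIII_or_IV hG hM hP hII hU).resolve_right ?_
    rintro ⟨W₁', U', W₂', hP', -, -, -, hnab, -⟩
    obtain ⟨m, -, -, rfl, -⟩ := TypeP.conj_data hP hP'
    refine hnab ⟨⟨fun x y => ?_⟩⟩
    obtain ⟨a, ha, hxa⟩ := x.2
    obtain ⟨c, hc, hyc⟩ := y.2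
    refine Subtype.ext ?_
    show (x : G) * y = y * x
    rw [← hxa, ← hyc, ← map_mul, ← map_mul]
    exact congrArg _ (congrArg Subtype.val (hUab.is_comm.comm ⟨a, ha⟩ ⟨c, hc⟩))

end

/-- No maximal subgroup is of Type IV. -/
theorem not_isOfTypeIV (hG : Cfsg.IsMinSimpleOddOrder G) (hM : IsCoatom M) :
    ¬ Cfsg.IsOfTypeIV M := by
  intro hIV
  have hII : ¬ Cfsg.IsOfTypeII M := fun h => PF8.not_typeIII_IV_of_typeII h (Or.inr hIV)
  obtain ⟨W₁, U, W₂, hP, -, -, -, hnab, -⟩ := hIV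
  exact hnab (nonII_structure hG hM hP hII).2.1

end Cfsg.Agent.OddOrder.PF11
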