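import Cfsg.Agent.OddOrder.PF11.Tools
import Cfsg.Agent.OddOrder.PF9.CoreCoherence

/-!
# Peterfalvi (11.4), (11.5): the bound from non-coherence, and the end of an exact configuration
-/

set_option autoImplicit false
set_option linter.unusedSectionVars false
set_option linter.style.haveILetI false

open scoped ComplexConjugate

namespace Cfsg.Agent.OddOrder.PF11

open Cfsg.Agent H43 Finset
open scoped Classical

universe u

variable {G : Type u} [Group G] [Fintype G] {L : Subgroup G} [Fintype L]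
  {K H H₀ U W₁ W₂ : Subgroup L} {p q : ℕ} {A : Set G} {R : G → Subgroup G}
  {χ : (↥(W₁.map L.subtype ⊔ W₂.map L.subtype) →* ℂˣ) → (G → ℂ)}

section

variable (b : PF10.Base K W₁ W₂ A R χ) (s : PF9.Setting K H H₀ U W₁ W₂ p q)

include b s

theorem p_ne_q : p ≠ q := by
  intro e
  have h1 : p ∣ Nat.card K := by
    have h2 : H₀.relIndex W₂ ∣ Nat.card W₂ := Subgroup.relIndex_dvd_card _ _
    rw [s.index_W₂] at h2
    exact h2.trans (Subgroup.card_dvd_of_le s.hyp.le)
  have h := s.hyp.coprime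
  rw [s.card_W₁, ← e] at h
  exact s.p_prime.one_lt.ne' ((Nat.coprime_self p).1 (h.coprime_dvd_right h1))

theorem one_lt_u : 1 < (sectionCent H H₀).relIndex U := by
  refine lt_of_le_of_ne (Nat.pos_of_ne_zero Subgroup.FiniteIndex.index_ne_zero) fun e => s.cent ?_
  exact Subgroup.relIndex_eq_one.1 e.symm

theorem N_lt : K ⊓ sectionCent H H₀ < K := by
  refine lt_of_le_of_ne inf_le_left fun e => ?_
  have h := s.index_N
  rw [e, Subgroup.relIndex_self] at h
  exact (one_lt_u b s).ne h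

/-- `|H C : H₀ C| = |H : H₀|`. -/
theorem relIndex_HC :
    (H₀ ⊔ U ⊓ sectionCent H H₀).relIndex K = p ^ q * (sectionCent H H₀).relIndex U := by
  haveI := s.HC_normal
  rw [← Subgroup.relIndex_mul_relIndex (H₀ ⊔ U ⊓ sectionCent H H₀) (K ⊓ sectionCent H H₀) K
    (le_inf s.HC_le (sup_le (s.le.trans s.H_le_cent) inf_le_right)) inf_le_left, s.index_N]
  congr 1
  have e : H₀ ⊔ U ⊓ sectionCent H H₀ ⊔ H = K ⊓ sectionCent H H₀ := by
    rw [s.N_eq]
    refine le_antisymm (sup_le (sup_le (s.le.trans le_sup_left) le_sup_right) le_sup_left)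
      (sup_le le_sup_right (le_sup_right.trans le_sup_left))
  rw [← e, Subgroup.relIndex_sup_left, ← Subgroup.inf_relIndex_right]
  have e' : (H₀ ⊔ U ⊓ sectionCent H H₀) ⊓ H = H₀ :=
    le_antisymm s.HC_inf_H (le_inf le_sup_left s.le)
  rw [e', s.index_H]

theorem commutator_N_inf : ⁅K ⊓ sectionCent H H₀, K ⊓ sectionCent H H₀⁆ ⊓ H ≤ H₀ :=
  (inf_le_inf_right _ ((le_sup_right).trans s.A₀_le_HC)).trans s.HC_inf_H

theorem lt_pow : 4 * q ^ 2 + 1 < p ^ q ∧ 2 * q + 1 < p ^ q := by
  have hp := s.two_lt_p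
  have hq := s.two_lt_q
  rcases eq_or_lt_of_le (show 3 ≤ q by omega) with e | e
  · have h5 : 5 ≤ p := by
      have hne := p_ne_q b s
      rcases Nat.lt_or_ge p 5 with h | h
      · interval_cases p
        · omega
        · exact absurd s.p_prime (by norm_num)
      · exact h
    have h125 : 125 ≤ p ^ q := by
      rw [← e]
      exact le_trans (by norm_num) (Nat.pow_le_pow_left h5 3)
    rw [← e] at h125 ⊢
    constructor <;> omega
  · have h3 : ∀ n, 4 ≤ n → 4 * n ^ 2 + 1 < 3 ^ n := by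
      intro n hn
      induction n, hn using Nat.le_induction with
      | base => norm_num
      | succ n hn ih => rw [pow_succ 3]; nlinarith
    have h4 := h3 q e
    have hpow : 3 ^ q ≤ p ^ q := Nat.pow_le_pow_left (by omega) q
    constructor <;> nlinarith

variable (hnc : ¬ Cfsg.IsCoherent (Cfsg.inducedIrrAbove K ⊥) ({1}ᶜ : Set L)
  (Cfsg.dadeIsometry A L R))

include hnc

/-- Peterfalvi (11.4): `S(H₁)` coherent forces `|K : H₁| ≤ 2 q u + 1`. -/
theorem bound (hnil : Group.IsNilpotent ↥(K ⊓ sectionCent H H₀)) {H₁ : Subgroup L} [H₁.Normal]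
    (hlt : H₁ < K)
    (hcoh : Cfsg.IsCoherent (Cfsg.inducedIrrAbove K H₁) ({1}ᶜ : Set L)
      (Cfsg.dadeIsometry A L R)) :
    H₁.relIndex K ≤ 2 * q * (sectionCent H H₀).relIndex U + 1 := by
  by_contra hbig
  push Not at hbig
  haveI := s.K_normal
  haveI := s.N_normal
  obtain ⟨Rs, hS, -, -⟩ := b.exists_system_bot
  set N := K ⊓ sectionCent H H₀ with hN
  have hcoh' : Cfsg.IsCoherent (Cfsg.inducedIrrAbove K ⁅N, N⁆) ({1}ᶜ : Set L)
      (Cfsg.dadeIsometry A L R) := by
    refine PF6.coherent_seqInd_of_sq_bound b.solvable hS H₁ ⁅N, N⁆ N N hlt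
      (lt_of_le_of_lt (Subgroup.commutator_le_self N) (N_lt b s)) le_rfl inf_le_left
      (fun x hx y hy => ?_) hcoh ?_
    · rw [← commutatorElement_def]
      exact Subgroup.commutator_mem_commutator hx hy
    · rw [Subgroup.relIndex_self, mul_one,
        ← Subgroup.relIndex_mul_index (show N ≤ K from inf_le_left), s.index_N, b.index_eq, s.card_W₁]
      have h1 : 2 * ((sectionCent H H₀).relIndex U * q) < H₁.relIndex K - 1 := by
        rw [show 2 * ((sectionCent H H₀).relIndex U * q) =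
          2 * q * (sectionCent H H₀).relIndex U by ring]
        omega
      calc 4 * ((sectionCent H H₀).relIndex U * q) ^ 2
          = (2 * ((sectionCent H H₀).relIndex U * q)) ^ 2 := by ring
        _ < (H₁.relIndex K - 1) ^ 2 := Nat.pow_lt_pow_left h1 two_ne_zero
  haveI : ((⊥ : Subgroup L).subgroupOf N).Normal := by
    rw [Subgroup.bot_subgroupOf]; infer_instance
  haveI : Group.IsNilpotent N := hnil
  refine hnc (PF6.coherent_seqInd_nilpotent b.solvable hS ⊥ ⁅N, N⁆ N bot_le
    (Subgroup.commutator_le_self N) inf_le_left inferInstance hcoh' ?_)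
  rw [b.index_eq, s.card_W₁]
  refine lt_of_lt_of_le (lt_pow b s).1 ?_
  rw [← s.index_H]
  refine le_trans ?_ (Subgroup.relIndex_le_of_le_right (s.H_le.trans_eq rfl |> fun h =>
    le_inf h s.H_le_cent) Subgroup.FiniteIndex.index_ne_zero)
  rw [← Subgroup.inf_relIndex_right ⁅N, N⁆ H]
  exact Subgroup.relIndex_le_of_le_left (commutator_N_inf b s) Subgroup.FiniteIndex.index_ne_zero

/-- `S(H₀ C)` is not coherent. -/
theorem not_coherent_HC (hnil : Group.IsNilpotent ↥(K ⊓ sectionCent H H₀)) :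
    ¬ Cfsg.IsCoherent (Cfsg.inducedIrrAbove K (H₀ ⊔ U ⊓ sectionCent H H₀)) ({1}ᶜ : Set L)
      (Cfsg.dadeIsometry A L R) := by
  intro hcoh
  haveI := s.HC_normal
  have hlt : H₀ ⊔ U ⊓ sectionCent H H₀ < K :=
    lt_of_le_of_lt (le_inf s.HC_le (sup_le (s.le.trans s.H_le_cent) inf_le_right)) (N_lt b s)
  have h := bound b s hnc hnil hlt hcoh
  rw [relIndex_HC b s] at h
  have h1 := (lt_pow b s).2
  have h2 := one_lt_u b s

  nlinarith [Nat.mul_le_mul_right ((sectionCent H H₀).relIndex U) (show 2 * q + 2 ≤ p ^ q by omega)]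

end

end Cfsg.Agent.OddOrder.PF11
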