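import Cfsg.Agent.OddOrder.PF11.Bound
import Cfsg.Agent.OddOrder.PF10.Noncoherence

/-!
# Peterfalvi (11.8): exactness contradicts non-coherence; the split case is exact

With an exact pivot every member of `S(H₀ C)` satisfies the key equation, so that set is coherent.
In the split case the degree sum forces all column sums of `γ` to vanish.
-/

set_option autoImplicit false
set_option linter.unusedSectionVars false
set_option linter.style.haveILetI false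

open scoped ComplexConjugate

namespace Cfsg.Agent.OddOrder.PF11

open Cfsg.Agent H43 Finset
open scoped Classical

universe u

variable {G : Type u} [Group G] [Fintype G] {L : Subgroup G} [Fintype L]
  {K H H₀ U W₁ W₂ : Subgroup L} {p q : ℕ} {A : Set G} {R : G → Subgroup G}
  {χ : (↥(W₁.map L.subtype ⊔ W₂.map L.subtype) →* ℂˣ) → (G → ℂ)}

/-- Either `U` acts irreducibly on `H / H₀` or there are invariant lines. -/
def Dichotomy (H H₀ U W₁ : Subgroup L) (p : ℕ) : Prop :=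
  (∀ B : Subgroup L, H₀ ≤ B → B ≤ H → U ≤ Subgroup.normalizer (B : Set L) → B = H₀ ∨ B = H) ∨
    ∃ N₁ a, PF9.Lines H H₀ U W₁ N₁ p a

section

variable (b : PF10.Base K W₁ W₂ A R χ) (s : PF9.Setting K H H₀ U W₁ W₂ p q)

include b s

/-- No member of `S(A)` of section 9 has degree `[L : K]`. -/
theorem degree_ne_one {A' : Subgroup L} (hA' : H₀ ≤ A') {θ : Cfsg.IrrCharacter K}
    (hθ : θ ∈ PF9.thetasS K H A') : (θ : K → ℂ) 1 ≠ 1 := by
  intro h1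
  haveI := s.K_normal
  haveI := s.H_normal
  haveI := s.H₀_normal
  haveI := b.derived_normal
  obtain ⟨f, hf⟩ := CharInduce.IsChar.exists_hom_of_degree_one (CharBasic.IsIrr.isCharacter θ.2) h1
  set B := H ⊓ (H₀ ⊔ ⁅K, K⁆) with hB
  have hBH : B = H := by
    rcases s.maximal B inferInstance (le_inf s.le le_sup_left) inf_le_left with e | e
    · exfalso
      refine s.cent fun u hu => PF9.mem_sectionCent_iff.2 fun h hh => ?_
      rw [← e, ← commutatorElement_def]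
      refine ⟨?_, Subgroup.mem_sup_right
        (Subgroup.commutator_mem_commutator (s.U_le hu) (s.H_le hh))⟩
      exact Subgroup.commutator_le_right ⊤ H
        (Subgroup.commutator_mem_commutator (Subgroup.mem_top u) hh)
    · exact e
  obtain ⟨hker, a, ha, hne⟩ := PF9.mem_thetasS.1 hθ
  refine hne ?_
  have hle : H₀ ⊔ ⁅K, K⁆ ≤ f.ker.map K.subtype := by
    refine sup_le (fun x hx => ⟨⟨x, s.H_le (s.le hx)⟩, ?_, rfl⟩) ?_
    · rw [SetLike.mem_coe, MonoidHom.mem_ker]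
      have h := hker ⟨x, s.H_le (s.le hx)⟩ (hA' hx)
      rw [hf, hf, map_one] at h
      exact Units.ext h
    · rw [← Subgroup.map_subtype_commutator]
      exact Subgroup.map_mono (Abelianization.commutator_subset_ker f)
  obtain ⟨a', ha', e⟩ := hle (hBH.ge ha).2
  obtain rfl : a' = a := Subtype.ext e
  rw [hf, hf, map_one, MonoidHom.mem_ker.1 ha']

/-- A member of `S(A)` of section 9 is not in `X`. -/
theorem calS_not_X {A' : Subgroup L} (hA' : H₀ ≤ A') {f : L → ℂ} (hf : f ∈ PF9.calS K H A') :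
    f ∉ PF10.X K := by
  intro hX
  obtain ⟨θ, hθ, rfl⟩ := PF9.mem_calS.1 hf
  have h := b.X_one hX
  rw [CharInduce.indFun_one, b.index_eq] at h
  refine degree_ne_one b s hA' hθ ?_
  exact mul_left_cancel₀ (by exact_mod_cast Nat.card_pos.ne') (h.trans (mul_one _).symm)

/-- A member of `S(H₀ C)` lies in `X` or is nontrivial on `H`. -/
theorem seqInd_cases {f : L → ℂ} (hf : f ∈ PF6.seqInd K (H₀ ⊔ U ⊓ sectionCent H H₀)) :
    f ∈ PF10.X K ∨ f ∈ PF9.calS K H (H₀ ⊔ U ⊓ sectionCent H H₀) := by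
  obtain ⟨θ, hθ, rfl⟩ := (PF6.mem_seqInd K).1 hf
  obtain ⟨hne, hker⟩ := (PF6.mem_thetas K).1 hθ
  by_cases hH : ∃ a : K, (a : L) ∈ H ∧ (θ : K → ℂ) a ≠ (θ : K → ℂ) 1
  · exact Or.inr (PF9.mem_calS.2 ⟨θ, PF9.mem_thetasS.2 ⟨hker, hH⟩, rfl⟩)
  push Not at hH
  refine Or.inl ((PF6.mem_seqInd K).2 ⟨θ, (PF6.mem_thetas K).2 ⟨hne, fun a ha => ?_⟩, rfl⟩)
  have ha' : (a : L) ∈ H ⊔ U ⊓ sectionCent H H₀ := s.N_eq ▸ s.commutator_K_le ha
  haveI := s.H_normal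
  rw [← SetLike.mem_coe, Subgroup.normal_mul] at ha'
  obtain ⟨h, hh, c, hc, e⟩ := Set.mem_mul.1 ha'
  have hcK : c ∈ K := s.U_le hc.1
  obtain rfl : a = ⟨h, s.H_le hh⟩ * ⟨c, hcK⟩ := Subtype.ext e.symm
  exact (CharBasic.IsChar.eq_one_mul (CharBasic.IsIrr.isCharacter θ.2)
    (hH ⟨h, s.H_le hh⟩ hh) _).trans (hker ⟨c, hcK⟩ (Subgroup.mem_sup_right hc))

variable (hp2 : Nat.card W₂ = p)

include hp2

theorem W₂_inf : W₂ ⊓ H₀ = ⊥ := by
  haveI : Fact (Nat.card W₂).Prime := ⟨hp2.symm ▸ s.p_prime⟩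
  rcases Subgroup.eq_bot_or_eq_top_of_prime_card (H₀.subgroupOf W₂) with e | e
  · exact disjoint_iff.1 (Subgroup.subgroupOf_eq_bot.1 e).symm
  · exact absurd (Subgroup.subgroupOf_eq_top.1 e) s.W₂_not_le

theorem red_mem_fixedS {ψ : ↥(W₁ ⊔ W₂) →* ℂˣ} (hψ : ψ ∈ PF10.colSet W₁ W₂) :
    haveI := s.K_normal
    (⟨b.dadeHyp.prime.theta ψ, b.dadeHyp.prime.theta_irr ψ⟩ : Cfsg.IrrCharacter K) ∈
      PF9.fixedS K H W₁ H₀ := by
  haveI := s.K_normal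
  rw [s.fixedS_eq_image, Finset.mem_image]
  refine ⟨ψ, mem_erase.2 ⟨(b.mem_colSet.1 hψ).2, mem_filter.2 ⟨mem_univ _, (b.mem_colSet.1 hψ).1,
    fun w hw => ?_⟩⟩, rfl⟩
  have h2 : (w : L) ∈ W₂ ⊓ H₀ := ⟨s.hyp.mem_W₂_of_mem_K w (s.H_le (s.le hw)), hw⟩
  rw [W₂_inf b s hp2, Subgroup.mem_bot] at h2
  rw [show w = 1 from Subtype.ext h2, map_one]

theorem mu_one_eq {ψ : ↥(W₁ ⊔ W₂) →* ℂˣ} (hψ : ψ ∈ PF10.colSet W₁ W₂) :
    b.dadeHyp.prime.mu ψ 1 = ((sectionCent H H₀).relIndex U : ℕ) :=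
  s.fixedS_degree (red_mem_fixedS b s hp2 hψ)

theorem red_mem_calS {ψ : ↥(W₁ ⊔ W₂) →* ℂˣ} (hψ : ψ ∈ PF10.colSet W₁ W₂) :
    b.dadeHyp.prime.red ψ ∈ PF9.calS K H (H₀ ⊔ U ⊓ sectionCent H H₀) := by
  haveI := s.K_normal
  refine PF9.mem_calS.2 ⟨⟨b.dadeHyp.prime.theta ψ, b.dadeHyp.prime.theta_irr ψ⟩, ?_, rfl⟩
  have h := red_mem_fixedS b s hp2 hψ
  rw [← s.fixedS_HC, PF9.fixedS, Finset.mem_filter] at h
  exact h.1

theorem u_le_relIndex :
    (sectionCent H H₀).relIndex U ≤ (⁅K, K⁆ : Subgroup L).relIndex K := by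
  rw [← s.index_N]
  exact Subgroup.relIndex_le_of_le_left s.commutator_K_le Subgroup.FiniteIndex.index_ne_zero

theorem key_red_HC {ζ₀ : L → ℂ} {φ₀ : G → ℂ} (hp : PF10.Pivot A R K χ ζ₀ φ₀)
    (hx : PF10.Exact A R K χ ζ₀ φ₀) {ψ : ↥(W₁ ⊔ W₂) →* ℂˣ} (hψ : ψ ∈ PF10.colSet W₁ W₂) :
    PF10.Key A R K ζ₀ φ₀ (b.dadeHyp.prime.red ψ) :=
  b.key_red hp hx hψ (b.n_le_card_X (mu_one_eq b s hp2 hψ) (u_le_relIndex b s hp2))

variable (hcase : Dichotomy H H₀ U W₁ p)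

include hcase

/-- A coherent extension on `S(H₀ C')` of section 9. -/
theorem exists_extension :
    ∃ τ₁ : (L → ℂ) → (G → ℂ),
      Cfsg.IsLinearIsometryOn
        (Cfsg.zspan (↑(PF9.calS K H (PF9.A₀ K H H₀)) : Set (L → ℂ))) τ₁ ∧
      ∀ α ∈ Cfsg.zspanOn (↑(PF9.calS K H (PF9.A₀ K H H₀)) : Set (L → ℂ)) ({1}ᶜ : Set L),
        τ₁ α = Cfsg.dadeIsometry A L R α := by
  obtain ⟨Rs, hS, -, -⟩ := b.exists_system_bot
  have hsub : (↑(PF9.calS K H (PF9.A₀ K H H₀)) : Set (L → ℂ)) ⊆ Cfsg.inducedIrrAbove K ⊥ :=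
    fun f hf => PF6.seqInd_subset_inducedIrr _ (PF9.calS_subset _ _ _ hf)
  have hvan : ∀ α ∈ PF9.suppGen K H, ∀ g : L, (g : G) ∉ A → α g = 0 := fun α hα g hg =>
    hα.2 g fun hc => hg (b.mem_A_of_mem_K hc.1 hc.2.1)
  have hext : Cfsg.IsLinearIsometryOn (PF9.suppGen K H) (Cfsg.dadeIsometry A L R) :=
    ⟨fun α _ β _ => PF4.dade_add α β, fun α _ n => PF4.dade_zsmul n α,
      fun α hα β hβ => PF10.inner_dade b.dadeHyp.dade (gen_isClassFunction hα.1) (hvan α hα)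
        (gen_isClassFunction hβ.1) (hvan β hβ),
      fun α hα => PF10.gen_dade b.dadeHyp.dade hα.1 (hvan α hα)⟩
  obtain ⟨-, τ₁, h1, h2⟩ := s.coherent_core hS hsub hext hcase
  exact ⟨τ₁, h1, h2⟩

/-- The data of an irreducible member against a column. -/
theorem member_relation {τ₁ : (L → ℂ) → (G → ℂ)}
    (hτ₁ : Cfsg.IsLinearIsometryOn
      (Cfsg.zspan (↑(PF9.calS K H (PF9.A₀ K H H₀)) : Set (L → ℂ))) τ₁)
    (hagree : ∀ α ∈ Cfsg.zspanOn (↑(PF9.calS K H (PF9.A₀ K H H₀)) : Set (L → ℂ)) ({1}ᶜ : Set L),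
      τ₁ α = Cfsg.dadeIsometry A L R α)
    {f : L → ℂ} (hf : f ∈ PF9.calS K H (H₀ ⊔ U ⊓ sectionCent H H₀)) {d : ℕ}
    (hd : f 1 = ((q * d : ℕ) : ℂ)) {ψ : ↥(W₁ ⊔ W₂) →* ℂˣ} (hψ : ψ ∈ PF10.colSet W₁ W₂) :
    ∀ w : G → ℂ, Cfsg.classInner (Cfsg.dadeIsometry A L R
        ((((sectionCent H H₀).relIndex U : ℕ) : ℤ) • f - (d : ℤ) • b.dadeHyp.prime.red ψ)) w =
      ((sectionCent H H₀).relIndex U : ℂ) * Cfsg.classInner (τ₁ f) w -
        (d : ℂ) * Cfsg.classInner (τ₁ (b.dadeHyp.prime.red ψ)) w := by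
  intro w
  have hmono := PF9.calS_mono (K := K) (H := H) s.A₀_le_HC
  have h1 : f ∈ PF9.calS K H (PF9.A₀ K H H₀) := hmono hf
  have h2 : b.dadeHyp.prime.red ψ ∈ PF9.calS K H (PF9.A₀ K H H₀) :=
    hmono (red_mem_calS b s hp2 hψ)
  have hz : (((sectionCent H H₀).relIndex U : ℕ) : ℤ) • f - (d : ℤ) • b.dadeHyp.prime.red ψ ∈
      Cfsg.zspanOn (↑(PF9.calS K H (PF9.A₀ K H H₀)) : Set (L → ℂ)) ({1}ᶜ : Set L) :=
    zspanOn_compl_one.2 ⟨zspan_sub (zspan_zsmul (zspan_mem (mem_coe.2 h1)) _)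
      (zspan_zsmul (zspan_mem (mem_coe.2 h2)) _), by
        simp [hd, b.dadeHyp.prime.red_one, mu_one_eq b s hp2 hψ]
        rw [← Nat.card_eq_fintype_card, s.card_W₁]
        ring⟩
  rw [← hagree _ hz, iso_sub hτ₁ (zspan_zsmul (zspan_mem (mem_coe.2 h1)) _)
    (zspan_zsmul (zspan_mem (mem_coe.2 h2)) _) hz.1, hτ₁.2.1 _ (zspan_mem (mem_coe.2 h1)),
    hτ₁.2.1 _ (zspan_mem (mem_coe.2 h2)), CharBasic.classInner_sub_left,
    H43.classInner_zsmul_left, H43.classInner_zsmul_left]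
  push_cast
  ring

/-- The image of the reducible member of a column, given an irreducible member. -/
theorem red_cases {τ₁ : (L → ℂ) → (G → ℂ)}
    (hτ₁ : Cfsg.IsLinearIsometryOn
      (Cfsg.zspan (↑(PF9.calS K H (PF9.A₀ K H H₀)) : Set (L → ℂ))) τ₁)
    (hagree : ∀ α ∈ Cfsg.zspanOn (↑(PF9.calS K H (PF9.A₀ K H H₀)) : Set (L → ℂ)) ({1}ᶜ : Set L),
      τ₁ α = Cfsg.dadeIsometry A L R α)
    {f : L → ℂ} (hf : f ∈ PF9.calS K H (H₀ ⊔ U ⊓ sectionCent H H₀))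
    (hi : Cfsg.IsIrrCharacter L f) {ψ : ↥(W₁ ⊔ W₂) →* ℂˣ} (hψ : ψ ∈ PF10.colSet W₁ W₂) :
    τ₁ (b.dadeHyp.prime.red ψ) = b.dadeHyp.prime.delta ψ •
        ∑ φ ∈ univ.filter (fun φ : ↥(W₁ ⊔ W₂) →* ℂˣ => TrivR φ), PF4.eta χ (φ * ψ) ∨
      τ₁ (b.dadeHyp.prime.red ψ) = -b.dadeHyp.prime.delta ψ •
        ∑ φ ∈ univ.filter (fun φ : ↥(W₁ ⊔ W₂) →* ℂˣ => TrivR φ), PF4.eta χ (φ * ψ⁻¹) := by
  obtain ⟨Rs, hS, hirr, hred⟩ := b.exists_system_bot
  have hmono := PF9.calS_mono (K := K) (H := H) s.A₀_le_HC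
  have hne : ∀ η, f ≠ b.dadeHyp.prime.red η := fun η e =>
    b.dadeHyp.prime.red_not_irr η (e ▸ hi)
  exact b.dadeHyp.red_image b.family hS (fun φ hφ => b.mem_bot_spec subset_rfl hφ) hirr hred
    (fun g hg => PF6.seqInd_subset_inducedIrr _ (PF9.calS_subset _ _ _ hg))
    (fun g hg => PF9.calS_conj hg) hτ₁ hagree (b.mem_colSet.1 hψ).1
    (b.colSet_not_trivR hψ) (mem_coe.2 (hmono (red_mem_calS b s hp2 hψ))) (mem_coe.2 (hmono hf))
    (hne ψ) (hne ψ⁻¹)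

variable (hnc : ¬ Cfsg.IsCoherent (Cfsg.inducedIrrAbove K ⊥) ({1}ᶜ : Set L)
  (Cfsg.dadeIsometry A L R)) (hnil : Group.IsNilpotent ↥(K ⊓ sectionCent H H₀))

include hnc hnil

/-- An exact pivot is impossible. -/
theorem false_of_exact {ζ₀ : L → ℂ} {φ₀ : G → ℂ} (hp : PF10.Pivot A R K χ ζ₀ φ₀)
    (hx : PF10.Exact A R K χ ζ₀ φ₀) : False := by
  haveI := s.K_normal
  obtain ⟨τ₁, hτ₁, hagree⟩ := exists_extension b s hp2 hcase
  refine not_coherent_HC b s hnc hnil ?_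
  haveI := s.HC_normal
  obtain ⟨Rs, hS, -, -⟩ := b.exists_system_bot
  have hlt : H₀ ⊔ U ⊓ sectionCent H H₀ < K :=
    lt_of_le_of_lt (le_inf s.HC_le (sup_le (s.le.trans s.H_le_cent) inf_le_right)) (N_lt b s)
  have hsub : (↑(PF6.seqInd K (H₀ ⊔ U ⊓ sectionCent H H₀) ∪ PF10.X K) : Set (L → ℂ)) ⊆
      Cfsg.inducedIrrAbove K ⊥ := by
    rw [coe_union]
    exact Set.union_subset (PF6.seqInd_subset_inducedIrr _) b.X_sub
  rw [← PF6.coe_seqInd]
  refine PF6.coherent_sub hS (b.coherent_of_key hp _ hsub subset_union_right fun f hf => ?_)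
    (coe_subset.2 subset_union_left) hsub
    ((PF6.seqInd_nonempty b.solvable hlt).elim fun a ha => ⟨a, mem_coe.2 ha⟩)
    fun φ hφ => PF6.seqInd_conj K hφ
  rcases mem_union.1 hf with hf | hf
  swap
  · exact b.key_X hp hf
  rcases seqInd_cases b s hf with h | h
  · exact b.key_X hp h
  obtain ⟨θ, hθ, rfl⟩ := PF9.mem_calS.1 h
  rcases s.indFun_cases le_sup_left hθ with ⟨-, hi⟩ | ⟨hm, -, -, -, -⟩
  · obtain ⟨m, -, hm⟩ := CharBasic.IsIrr.exists_degree θ.2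
    obtain ⟨ψ, hψ⟩ := b.colSet_nonempty
    have hd : Cfsg.indFun K (θ : K → ℂ) 1 = ((q * m : ℕ) : ℂ) := by
      rw [CharInduce.indFun_one, hm, s.hyp.index_eq, s.card_W₁, Nat.cast_mul]
    intro d hd'
    have hmd : d = m := by
      rw [hd, b.index_eq, s.card_W₁, Nat.cast_inj] at hd'
      exact (Nat.eq_of_mul_eq_mul_left s.q_prime.pos hd').symm
    subst hmd
    have hmemA := PF9.calS_mono (K := K) (H := H) s.A₀_le_HC h
    obtain ⟨ho1, ho2⟩ := b.orth_of_coherent hτ₁ hagree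
      (fun g hg => PF6.seqInd_subset_inducedIrr _ (PF9.calS_subset _ _ _ hg)) (mem_coe.2 hmemA)
      (mem_coe.2 (PF9.calS_conj hmemA)) hi (calS_not_X b s le_sup_left h) hp
    have hφ : Cfsg.classInner (τ₁ (Cfsg.indFun K (θ : K → ℂ))) φ₀ = 0 := by
      have := ho2 ζ₀ hp.mem
      rwa [b.phi_self hp] at this
    have hr : Cfsg.classInner (τ₁ (b.dadeHyp.prime.red ψ)) φ₀ = 0 := by
      have h0 : ∀ ω, Cfsg.classInner (PF4.eta χ ω) φ₀ = 0 := fun ω => by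
        rw [← CharInduce.conj_classInner, hp.orth, map_zero]
      rcases red_cases b s hp2 hcase hτ₁ hagree h hi hψ with e | e <;>
        simp [e, CharBasic.classInner_neg_left, CharBasic.classInner_smul_left,
          CharBasic.classInner_sum_left, h0]
    have hrel := member_relation b s hp2 hcase hτ₁ hagree h hd hψ φ₀
    rw [hφ, hr, mul_zero, mul_zero, sub_zero] at hrel
    have hk := key_red_HC b s hp2 hp hx hψ ((sectionCent H H₀).relIndex U) (by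
      rw [b.dadeHyp.prime.red_one, mu_one_eq b s hp2 hψ, b.index_eq, Nat.cast_mul])
    rw [(b.X_orth_red hp.mem ψ).2, zero_sub] at hk
    set u := (sectionCent H H₀).relIndex U with hu
    set f := Cfsg.indFun K (θ : K → ℂ) with hfdef
    have e : (u : ℤ) • (f - (d : ℤ) • ζ₀) =
        ((u : ℤ) • f - (d : ℤ) • b.dadeHyp.prime.red ψ) +
          (d : ℤ) • (b.dadeHyp.prime.red ψ - (u : ℤ) • ζ₀) := by
      rw [smul_sub, smul_sub, smul_smul, smul_smul, mul_comm (d : ℤ) (u : ℤ)]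
      abel
    have h2 := congrArg (fun g => Cfsg.classInner (Cfsg.dadeIsometry A L R g) φ₀) e
    simp only [PF4.dade_zsmul, PF4.dade_add, CharBasic.classInner_add_left,
      H43.classInner_zsmul_left, hrel, hk, zero_add] at h2
    have hu0 : ((u : ℤ) : ℂ) ≠ 0 := by
      exact_mod_cast (show u ≠ 0 from Subgroup.FiniteIndex.index_ne_zero)
    have hz : Cfsg.classInner f ζ₀ = 0 := CharBasic.classInner_irr_of_ne hi (b.X_irr hp.mem).1
      fun e' => calS_not_X b s le_sup_left h (e' ▸ hp.mem)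
    rw [hz, zero_sub]
    refine mul_left_cancel₀ hu0 ?_
    rw [h2]
    push_cast
    ring
  · rw [s.fixedS_eq_image, Finset.mem_image] at hm
    obtain ⟨ω, hω, e⟩ := hm
    obtain ⟨hω1, hω2⟩ := mem_erase.1 hω
    have hψ : ω ∈ PF10.colSet W₁ W₂ := b.mem_colSet.2 ⟨(mem_filter.1 hω2).2.1, hω1⟩
    rw [show Cfsg.indFun K (θ : K → ℂ) = b.dadeHyp.prime.red ω from
      congrArg (fun t : Cfsg.IrrCharacter K => Cfsg.indFun K (t : K → ℂ)) e.symm]
    exact key_red_HC b s hp2 hp hx hψ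

/-- A pivot exists. -/
theorem exists_pivot : ∃ ζ₀ φ₀, PF10.Pivot A R K χ ζ₀ φ₀ := by
  obtain ⟨-, τ, hτ, hagree⟩ := b.X_coherent
  obtain ⟨ζ₀, hζ⟩ := b.X_nonempty
  exact ⟨ζ₀, _, b.pivot_of_coherent hτ hagree
    (fun f hf => PF6.seqInd_subset_inducedIrr _ (by rwa [PF6.coe_seqInd]))
    (by rw [PF6.coe_seqInd]) hζ⟩

/-- Peterfalvi (11.8): `|W₁| < |W₂|` is impossible. -/
theorem not_lt : ¬ q < p := by
  intro hlt
  obtain ⟨ζ₀, φ₀, hp⟩ := exists_pivot b s hp2 hcase hnc hnil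
  obtain ⟨φ₁, hp₁, hx₁⟩ := b.exists_exact_of_lt hp (by rw [s.card_W₁, hp2]; exact hlt)
  exact false_of_exact b s hp2 hcase hnc hnil hp₁ hx₁

end

end Cfsg.Agent.OddOrder.PF11
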