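import Cfsg.Agent.OddOrder.PF9.Setting
import Cfsg.Agent.OddOrder.PF6.Prime
import Cfsg.Agent.OddOrder.PF6.Chief
import Cfsg.Agent.OddOrder.BG15.ActionTools
import Cfsg.Agent.OddOrder.BG15.TypePCore
import Cfsg.Agent.PGroups.Extraspecial

/-!
# Peterfalvi 11: the structure of `K` below the coherence bound

In the setting of PF 9 with `|W₂| = p`, `H` nilpotent and `W₂ ≤ K'`: `N = C_K(H/H₀)` is nilpotent; the
bound `|K : K'| ≤ 2 q ū + 1` gives `K' = N`, hence `C ≤ U'` and `H = [H, U]`; in the Galois case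
`C = 1` and `H₀ = 1`.
-/

set_option autoImplicit false
set_option linter.style.haveILetI false
set_option linter.unusedVariables false

namespace Cfsg.Agent.OddOrder.PF11

open Subgroup
open scoped commutatorElement

universe u

variable {L : Type u} [Group L] [Fintype L] {K H H₀ U W₁ W₂ : Subgroup L} {p q : ℕ}

omit [Fintype L] in
theorem le_normalizer_of_normal (N : Subgroup L) [N.Normal] (A : Subgroup L) :
    A ≤ normalizer (N : Set L) := fun a _ => by rw [normalizer_eq_top]; exact mem_top a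

/-- Commuting nilpotent subgroups generate a nilpotent subgroup. -/
theorem isNilpotent_sup_of_centralizer {X Y : Subgroup L} (hX : Group.IsNilpotent X)
    (hY : Group.IsNilpotent Y) (hc : X ≤ centralizer (Y : Set L)) :
    Group.IsNilpotent ↥(X ⊔ Y) := by
  haveI := hX
  haveI := hY
  let f : X × Y →* L := MonoidHom.noncommCoprod X.subtype Y.subtype
    fun x y => (mem_centralizer_iff.1 (hc x.2) y y.2).symm
  have hr : X ⊔ Y = f.range := by
    apply le_antisymm
    · exact sup_le (fun x hx => ⟨(⟨x, hx⟩, 1), show (X.subtype ⟨x, hx⟩) * Y.subtype 1 = x by simp⟩)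
        fun y hy => ⟨(1, ⟨y, hy⟩), show (X.subtype 1) * Y.subtype ⟨y, hy⟩ = y by simp⟩
    · rintro _ ⟨⟨x, y⟩, rfl⟩
      simp only [f, MonoidHom.noncommCoprod_apply]
      exact mul_mem (mem_sup_left x.2) (mem_sup_right y.2)
  rw [hr]
  exact Group.nilpotent_of_surjective f.rangeRestrict f.rangeRestrict_surjective

section

variable (s : PF9.Setting K H H₀ U W₁ W₂ p q)
include s

theorem H₀_inf_W₂ (hp2 : Nat.card W₂ = p) : H₀ ⊓ W₂ = ⊥ := by
  have e := relIndex_mul_relIndex (⊥ : Subgroup L) (H₀ ⊓ W₂) W₂ bot_le inf_le_right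
  rw [inf_relIndex_right, s.index_W₂, relIndex_bot_left, relIndex_bot_left, hp2] at e
  exact card_eq_one.1 (Nat.eq_of_mul_eq_mul_right s.p_prime.pos (e.trans (one_mul p).symm))

/-- `U` centralizes `H₀`. -/
theorem U_le_centralizer_H₀ (hp2 : Nat.card W₂ = p) (hnil : Group.IsNilpotent H) :
    U ≤ centralizer (H₀ : Set L) := by
  haveI := s.H₀_normal
  haveI := hnil
  have hcop : (Nat.card W₁).Coprime (Nat.card K) := s.hyp.coprime
  have hW₂c : ∀ x ∈ W₁, x ≠ 1 → ∀ a ∈ K, x * a = a * x → a ∈ W₂ := fun x hx hx1 a ha h =>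
    (s.hyp.centralizer_eq x hx hx1).le ⟨ha, mem_centralizer_singleton_iff.2 h.symm⟩
  refine BG15.le_centralizer_of_frobenius (Nat.card H₀) rfl ?_ (le_normalizer_of_normal _ _)
    (le_normalizer_of_normal _ _) s.norm_U ?_ ?_ ?_ ?_
  · exact Coprime.isSolvable_of_le s.le inferInstance
  · refine fun k hk hk1 => le_bot_iff.1 fun a ha => ?_
    exact s.inf.le ⟨s.W₂_le (hW₂c k hk hk1 a (s.U_le ha.1)
      (mem_centralizer_singleton_iff.1 ha.2).symm), ha.1⟩
  · exact ((s.coprime.coprime_dvd_left (card_dvd_of_le s.le))).symm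
  · exact hcop.coprime_dvd_right (card_dvd_of_le (s.le.trans s.H_le))
  · refine fun a ha => ?_
    obtain ⟨x, hx, hx1⟩ := H41.exists_ne_one s.hyp.ne_bot₁
    have h2 : a ∈ H₀ ⊓ W₂ := ⟨ha.1, hW₂c x hx hx1 a (s.H_le (s.le ha.1))
      (mem_centralizer_iff.1 ha.2 x hx)⟩
    rw [H₀_inf_W₂ s hp2, mem_bot] at h2
    rw [h2]
    exact one_mem _

/-- `C = C_U(H/H₀)` centralizes `H`. -/
theorem C_le_centralizer_H (hp2 : Nat.card W₂ = p) (hnil : Group.IsNilpotent H) :
    U ⊓ sectionCent H H₀ ≤ centralizer (H : Set L) := by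
  haveI := s.H_normal
  haveI := s.H₀_normal
  refine Coprime.le_centralizer_of_commutator_le (le_normalizer_of_normal _ _)
    ((s.coprime.coprime_dvd_right (card_dvd_of_le inf_le_left)).symm)
    (N := H₀) (commutator_le.2 fun h hh c hc => ?_)
    (inf_le_left.trans (U_le_centralizer_H₀ s hp2 hnil))
  have h1 := inv_mem (PF9.mem_sectionCent_iff.1 hc.2 h hh)
  simpa [commutatorElement_def, mul_assoc] using h1

/-- (a) `N` is nilpotent. -/
theorem N_nilpotent (hp2 : Nat.card W₂ = p) (hnil : Group.IsNilpotent H) :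
    Group.IsNilpotent ↥(K ⊓ sectionCent H H₀) := by
  rw [s.N_eq]
  haveI := s.U_nil
  exact isNilpotent_sup_of_centralizer hnil
    (Group.nilpotent_of_mulEquiv (subgroupOfEquivOfLe (inf_le_left : U ⊓ sectionCent H H₀ ≤ U)))
    (le_centralizer_iff.1 (C_le_centralizer_H s hp2 hnil))

theorem one_lt_ub : 1 < (sectionCent H H₀).relIndex U := by
  have h0 : (sectionCent H H₀).relIndex U ≠ 0 := fun e => by
    have := relIndex_dvd_card (sectionCent H H₀) U
    rw [e, zero_dvd_iff] at this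
    exact Nat.card_pos.ne' this
  have h1 : (sectionCent H H₀).relIndex U ≠ 1 := fun e => s.cent (relIndex_eq_one.1 e)
  omega

/-- (b) The bound on `|K : K'|` gives `K' = N`. -/
theorem derived_eq_N (hW₂K : W₂ ≤ ⁅K, K⁆)
    (hb : ⁅K, K⁆.relIndex K ≤ 2 * q * (sectionCent H H₀).relIndex U + 1) :
    ⁅K, K⁆ = K ⊓ sectionCent H H₀ := by
  haveI := s.K_normal
  haveI := s.N_normal
  have hub := one_lt_ub s
  set ub := (sectionCent H H₀).relIndex U with hubd
  set N := K ⊓ sectionCent H H₀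
  have hle : ⁅K, K⁆ ≤ N := s.commutator_K_le
  have hidx : N.relIndex K = ub := s.index_N
  have hmul := relIndex_mul_relIndex ⁅K, K⁆ N K hle inf_le_left
  rw [hidx] at hmul
  set m := ⁅K, K⁆.relIndex N with hm
  obtain ⟨t, ht⟩ := PF6.relIndex_mod_index (H := ⁅K, K⁆) (N := N) hle inf_le_left le_rfl
    (PF6.frob_derived s.hyp hW₂K)
  rw [s.hyp.index_eq, s.card_W₁, ← hm] at ht
  have hodd : Odd m := s.odd.of_dvd_nat ((relIndex_dvd_card _ _).trans (card_subgroup_dvd_card _))
  refine le_antisymm hle (relIndex_eq_one.1 ?_)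
  rw [← hm]
  have hq := s.two_lt_q
  have hm2 : m ≤ 2 * q := by
    by_contra hlt
    push Not at hlt
    have h1 : (2 * q + 1) * ub ≤ m * ub := Nat.mul_le_mul_right ub hlt
    rw [hmul] at h1
    nlinarith [h1, hb, hub]
  rcases t with _ | _ | t
  · simpa using ht
  · exfalso
    have hqo : Odd q := s.card_W₁ ▸ s.odd.of_dvd_nat (card_subgroup_dvd_card W₁)
    rw [Nat.odd_iff] at hodd hqo
    omega
  · exfalso
    nlinarith [ht, hm2]

/-- (c) `C ≤ U'` and `H = [H, U]`. -/
theorem C_le_derived (hnil : Group.IsNilpotent H) (hKN : ⁅K, K⁆ = K ⊓ sectionCent H H₀) :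
    U ⊓ sectionCent H H₀ ≤ ⁅U, U⁆ ∧ H = ⁅H, U⁆ := by
  haveI := s.H_normal
  set M₀ := ⁅H, H⁆ ⊔ ⁅H, U⁆ with hM₀
  have hM₀H : M₀ ≤ H := sup_le (commutator_le_self H)
    (Coprime.commutator_le_left_of_normalizer (le_normalizer_of_normal H U))
  have hU'U : ⁅U, U⁆ ≤ U := commutator_le_self U
  set N := M₀ ⊔ ⁅U, U⁆
  have hNK : N ≤ K := sup_le (hM₀H.trans s.H_le) (hU'U.trans s.U_le)
  have hcH : ⁅H, N⁆ ≤ N := by
    refine (commutator_le.2 fun h hh n hn => ?_)
    refine (mem_sup_left (?_ : ⁅h, n⁆ ∈ M₀))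
    have hnH : n ∈ H ⊔ U := (sup_le_sup hM₀H hU'U) hn
    obtain ⟨a, ha, b, hb, rfl⟩ := Subgroup.mem_sup_of_normal_left.1 hnH
    rw [show ⁅h, a * b⁆ = ⁅h, a⁆ * (a * ⁅h, b⁆ * a⁻¹) by
      simp only [commutatorElement_def]; group]
    refine mul_mem (mem_sup_left (commutator_mem_commutator hh ha)) ?_
    exact mem_sup_right (Coprime.conj_mem (normalizer_commutator_ge_left H U ha)
      (commutator_mem_commutator hh hb))
  have hUM : U ≤ normalizer (M₀ : Set L) := fun u hu => by
    have h1 : U ≤ normalizer ((⁅H, H⁆ : Subgroup L) : Set L) :=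
      le_normalizer_of_normal _ _
    rw [mem_normalizer_iff_map]
    rw [Subgroup.map_sup, Coprime.map_conj_eq (h1 hu),
      Coprime.map_conj_eq (normalizer_commutator_ge_right H U hu)]
  have hNn : K ≤ normalizer (N : Set L) := by
    rw [← s.sup]
    refine sup_le (le_normalizer_iff_commutator_le_right.2 hcH) fun u hu => ?_
    rw [mem_normalizer_iff_map]
    rw [Subgroup.map_sup, Coprime.map_conj_eq (hUM hu),
      Coprime.map_conj_eq (Coprime.mem_normalizer_commutator (le_normalizer hu) (le_normalizer hu))]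
  have hK' : ⁅K, K⁆ ≤ N := by
    refine BG15.commutator_le_of_comm hNK hNn s.H_le s.U_le
      (fun m hm => s.mem_K hm) (fun w hw v hv => ?_) (fun w hw a ha => ?_) fun a ha b hb => ?_
    · rw [← commutatorElement_def]
      exact mem_sup_left (mem_sup_left (commutator_mem_commutator hw hv))
    · rw [← commutatorElement_def]
      exact mem_sup_left (mem_sup_right (commutator_mem_commutator hw ha))
    · rw [← commutatorElement_def]
      exact mem_sup_right (commutator_mem_commutator ha hb)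
  have hdec : ∀ g ∈ N, ∃ a ∈ M₀, ∃ b ∈ ⁅U, U⁆, a * b = g := fun g hg =>
    (Coprime.mem_sup_iff (hU'U.trans hUM)).1 hg
  constructor
  · intro c hc
    obtain ⟨a, ha, b, hb, rfl⟩ := hdec c (hK' (hKN ▸ ⟨s.U_le hc.1, hc.2⟩))
    have ha' : a ∈ U := by simpa using U.mul_mem hc.1 (U.inv_mem (hU'U hb))
    rw [show a = 1 from mem_bot.1 (s.inf.le ⟨hM₀H ha, ha'⟩), one_mul]
    exact hb
  · have hHM : H ≤ M₀ := fun h hh => by
      obtain ⟨a, ha, b, hb, rfl⟩ := hdec h (hK' (hKN ▸ ⟨s.H_le hh, s.H_le_cent hh⟩))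
      have hb' : b ∈ H := by simpa using H.mul_mem (H.inv_mem (hM₀H ha)) hh
      rw [show b = 1 from mem_bot.1 (s.inf.le ⟨hb', hU'U hb⟩), mul_one]
      exact ha
    have hHU : ⁅H, U⁆ ≤ H := Coprime.commutator_le_left_of_normalizer (le_normalizer_of_normal H U)
    have h1 : (⁅H, U⁆).subgroupOf H ⊔ commutator H = ⊤ := by
      apply Subgroup.map_injective H.subtype_injective
      rw [Subgroup.map_sup, Subgroup.map_subgroupOf_eq_of_le hHU, Subgroup.map_subtype_commutator,
        ← MonoidHom.range_eq_map, Subgroup.range_subtype, sup_comm]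
      exact le_antisymm hM₀H hHM
    haveI := hnil
    exact le_antisymm (Subgroup.subgroupOf_eq_top.1 (eq_top_of_sup_commutator h1)) hHU

/-- (d) The Galois case: `C = 1` and `H₀ = 1`. -/
theorem galois_trivial (hp2 : Nat.card W₂ = p) (hnil : Group.IsNilpotent H)
    (hKN : ⁅K, K⁆ = K ⊓ sectionCent H H₀)
    (hgal : ∀ B : Subgroup L, H₀ ≤ B → B ≤ H → U ≤ normalizer (B : Set L) → B = H₀ ∨ B = H)
    (hcyc : ∃ g ∈ U, ∀ b ∈ U, ∃ i : ℕ, (g ^ i)⁻¹ * b ∈ sectionCent H H₀) :
    U ⊓ sectionCent H H₀ = ⊥ ∧ H₀ = ⊥ := by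
  haveI := s.H_normal
  haveI := s.H₀_normal
  obtain ⟨hCU, hHU⟩ := C_le_derived s hnil hKN
  constructor
  · obtain ⟨g, hg, hgen⟩ := hcyc
    have h1 : (zpowers g).subgroupOf U ⊔ commutator U = ⊤ := by
      apply Subgroup.map_injective U.subtype_injective
      rw [Subgroup.map_sup, Subgroup.map_subgroupOf_eq_of_le (zpowers_le.2 hg),
        Subgroup.map_subtype_commutator, ← MonoidHom.range_eq_map, Subgroup.range_subtype]
      refine le_antisymm (sup_le (zpowers_le.2 hg) (commutator_le_self U)) fun b hb => ?_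
      obtain ⟨i, hi⟩ := hgen b hb
      have h2 := hCU ⟨U.mul_mem (U.inv_mem (U.pow_mem hg i)) hb, hi⟩
      rw [← mul_inv_cancel_left (g ^ i) b]
      exact mul_mem (mem_sup_left (pow_mem (mem_zpowers g) i)) (mem_sup_right h2)
    haveI := s.U_nil
    have h3 : U ≤ zpowers g := Subgroup.subgroupOf_eq_top.1 (eq_top_of_sup_commutator h1)
    refine le_bot_iff.1 (hCU.trans (commutator_le.2 fun a ha b hb => ?_))
    obtain ⟨i, rfl⟩ := mem_zpowers_iff.1 (h3 ha)
    obtain ⟨j, rfl⟩ := mem_zpowers_iff.1 (h3 hb)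
    exact mem_bot.2 (commutatorElement_eq_one_iff_mul_comm.2
      ((Commute.refl g).zpow_zpow i j).eq)
  have hUH₀ := U_le_centralizer_H₀ s hp2 hnil
  have hH₀' : H₀ ≤ ⁅H, H⁆ :=
    (le_inf s.le (le_centralizer_iff.1 hUH₀)).trans
      (BG15.inf_centralizer_le_derived (le_normalizer_of_normal H U) s.coprime.symm
        (hHU.le.trans le_sup_right))
  have hcen : ⁅⁅U, H⁆, H₀⁆ = ⊥ := by
    refine commutator_commutator_eq_bot_of_rotate ?_ ?_
    · rw [commutator_eq_bot_iff_le_centralizer]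
      exact (commutator_le_right H H₀).trans (le_centralizer_iff.1 hUH₀)
    · rw [(commutator_eq_bot_iff_le_centralizer).2 (le_centralizer_iff.1 hUH₀), commutator_bot_left]
  rw [commutator_comm U H, ← hHU, commutator_eq_bot_iff_le_centralizer] at hcen
  -- `H₀` is central in `H`
  by_contra hne
  obtain ⟨r, hr, hrd⟩ := Nat.exists_prime_and_dvd (show Nat.card H₀ ≠ 1 from
    fun e => hne (card_eq_one.1 e))
  haveI := Fact.mk s.p_prime
  have hc : commutator H ≤ center H := by
    intro a ha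
    have h1 : (a : L) ∈ ⁅H, H⁆ := by
      rw [← map_subtype_commutator]; exact ⟨a, ha, rfl⟩
    exact mem_center_iff.2 fun b => Subtype.ext
      (mem_centralizer_iff.1 (hcen b.2) _ (s.comm h1)).symm
  have hpow : ∀ a : H, a ^ p ∈ center H := fun a => mem_center_iff.2 fun b => Subtype.ext
    (mem_centralizer_iff.1 (hcen b.2) _ (s.pow_mem a a.2)).symm
  have hexp : ∀ a ∈ H₀, a ^ p = 1 := fun a ha => by
    have h1 := hH₀' ha
    rw [← map_subtype_commutator] at h1
    obtain ⟨a', ha', rfl⟩ := h1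
    rw [← map_pow, PGroups.pow_eq_one_of_mem_commutator hc hpow ha', map_one]
  have hH₀p : IsPGroup p H₀ := fun a => ⟨1, Subtype.ext (by simpa using hexp a a.2)⟩
  obtain ⟨n, hn⟩ := IsPGroup.iff_card.1 hH₀p
  obtain ⟨n', rfl⟩ : ∃ n', n = n' + 1 := ⟨n - 1, by
    rcases n with _ | n
    · exact absurd (card_eq_one.1 (hn.trans (pow_zero p))) hne
    · omega⟩
  obtain ⟨D₀, hD₀⟩ := Sylow.exists_subgroup_card_pow_prime (G := H₀) p
    (n := n') (hn ▸ pow_dvd_pow p n'.le_succ)
  set D := D₀.map H₀.subtype with hD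
  have hDle : D ≤ H₀ := map_subtype_le _
  have hDcard : Nat.card D = p ^ n' := by rw [hD, card_map_of_injective H₀.subtype_injective, hD₀]
  have hDn : ∀ A : Subgroup L, A ≤ centralizer (H₀ : Set L) → A ≤ normalizer (D : Set L) :=
    fun A hA => (hA.trans (centralizer_le hDle)).trans (H41.centralizer_le_normalizer D)
  have hDnH : H ≤ normalizer (D : Set L) := hDn H hcen
  haveI : (D.subgroupOf H).Normal := normal_subgroupOf_of_le_normalizer hDnH
  set f := QuotientGroup.mk' (D.subgroupOf H)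
  have hsurj : Function.Surjective f := QuotientGroup.mk'_surjective _
  have hDH : D ≤ H := hDle.trans s.le
  -- the centre of `H / D`
  set Z := (center (↥H ⧸ D.subgroupOf H)).comap f with hZ
  have hZcomm : ∀ a : H, a ∈ Z ↔ ∀ b : H, (a : L) * b * (a : L)⁻¹ * (b : L)⁻¹ ∈ D := by
    intro a
    rw [hZ, mem_comap, mem_center_iff]
    have key : ∀ b : H, (f b * f a = f a * f b) ↔ (a : L) * b * (a : L)⁻¹ * (b : L)⁻¹ ∈ D :=
      fun b => by
        rw [eq_comm, ← commutatorElement_eq_one_iff_mul_comm, ← map_commutatorElement]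
        exact (QuotientGroup.eq_one_iff _).trans mem_subgroupOf
    exact ⟨fun h b => (key b).1 (h (f b)), fun h x => by
      obtain ⟨b, rfl⟩ := hsurj x
      exact (key b).2 (h b)⟩
  set Z' := Z.map H.subtype with hZ'
  have hH₀Z : H₀ ≤ Z' := fun a ha => ⟨⟨a, s.le ha⟩, (hZcomm _).2 fun b => by
    rw [(mem_centralizer_iff.1 (hcen b.2) a ha : a * b = b * a), mul_inv_cancel_right,
      mul_inv_cancel]
    exact one_mem _, rfl⟩
  have hUZ : U ≤ normalizer (Z' : Set L) := by
    rw [le_normalizer_iff]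
    rintro u hu _ ⟨a, ha, rfl⟩
    have huD : ∀ v ∈ U, v ∈ normalizer (D : Set L) := fun v hv => hDn U hUH₀ hv
    refine ⟨⟨u * a * u⁻¹, s.H_normal.conj_mem _ a.2 u⟩, (hZcomm _).2 fun b => ?_, rfl⟩
    have h1 := (hZcomm a).1 ha ⟨u⁻¹ * b * u, by simpa using s.H_normal.conj_mem _ b.2 u⁻¹⟩
    have h2 := Coprime.conj_mem (huD u hu) h1
    simpa [mul_assoc] using h2
  have hZH₀ : Z' = H₀ := (hgal Z' hH₀Z (map_subtype_le _) hUZ).resolve_right fun e => by
    have h1 : ⁅H, H⁆ ≤ D := commutator_le.2 fun a ha b hb => by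
      obtain ⟨a', ha', rfl⟩ := (e ▸ ha : a ∈ Z')
      rw [commutatorElement_def]
      exact (hZcomm a').1 ha' ⟨b, hb⟩
    have := card_dvd_of_le (hH₀'.trans h1)
    rw [hn, hDcard, Nat.pow_dvd_pow_iff_le_right s.p_prime.one_lt] at this
    omega
  have hDrel : D.relIndex H₀ = p := by
    have e := relIndex_mul_relIndex (⊥ : Subgroup L) D H₀ bot_le hDle
    rw [relIndex_bot_left, relIndex_bot_left, hDcard, hn, pow_succ] at e
    exact Nat.eq_of_mul_eq_mul_left (pow_pos s.p_prime.pos n') e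
  have hDidx : Nat.card (↥H ⧸ D.subgroupOf H) = p ^ (q + 1) := by
    show D.relIndex H = _
    rw [← relIndex_mul_relIndex D H₀ H hDle s.le, hDrel, s.index_H, pow_succ']
  have hcenter : Nat.card (center (↥H ⧸ D.subgroupOf H)) = p := by
    have hZeq : Z = H₀.subgroupOf H := by
      rw [← hZH₀]; exact (Subgroup.comap_map_eq_self_of_injective H.subtype_injective Z).symm
    have e : center (↥H ⧸ D.subgroupOf H) = Z.map f :=
      (Subgroup.map_comap_eq_self_of_surjective hsurj _).symm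
    rw [e, hZeq]
    have h1 := Subgroup.relIndex_bot_left ((H₀.subgroupOf H).map f)
    rw [← h1, ← (Subgroup.map_eq_bot_iff (f := f) (D.subgroupOf H)).2 (QuotientGroup.ker_mk' _).ge]
    rw [relIndex_map_map, QuotientGroup.ker_mk', sup_idem,
      sup_eq_left.2 (fun x hx => hDle hx : D.subgroupOf H ≤ H₀.subgroupOf H),
      relIndex_subgroupOf s.le, hDrel]
  have hcQ : commutator (↥H ⧸ D.subgroupOf H) ≤ center (↥H ⧸ D.subgroupOf H) := by
    rw [_root_.commutator_def, ← Subgroup.map_top_of_surjective f hsurj, ← map_commutator, ← _root_.commutator_def,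
      ← Subgroup.map_comap_eq_self_of_surjective hsurj (center _)]
    refine Subgroup.map_mono fun a ha => ?_
    have h1 : (a : L) ∈ Z' := hZH₀ ▸ s.comm (by rw [← map_subtype_commutator]; exact ⟨a, ha, rfl⟩)
    obtain ⟨a', ha', e⟩ := h1
    rwa [← (Subtype.ext e : a' = a)]
  obtain ⟨k, hk⟩ := PGroups.card_eq_of_center_card (IsPGroup.of_card hDidx) hcQ hcenter
  rw [hDidx] at hk
  have := Nat.pow_right_injective s.p_prime.two_le hk
  have hqo : Odd q := s.card_W₁ ▸ s.odd.of_dvd_nat (card_subgroup_dvd_card W₁)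
  rw [Nat.odd_iff] at hqo
  omega

end

end Cfsg.Agent.OddOrder.PF11
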