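import Cfsg.Agent.OddOrder.PF11.Split
import Cfsg.Agent.OddOrder.PF11.Structure

/-!
# Peterfalvi (11.9) in an abstract `L`: Types III and IV

`|W₂| < |W₁|`, `C = 1`, `H₀ = 1`: `H` is elementary abelian of order `p ^ q` and `U` is abelian.
-/

set_option autoImplicit false
set_option linter.unusedSectionVars false

namespace Cfsg.Agent.OddOrder.PF11

open Cfsg.Agent
open scoped Classical commutatorElement

universe u

variable {G : Type u} [Group G] [Fintype G] {L : Subgroup G} [Fintype L]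
  {K H H₀ U W₁ W₂ : Subgroup L} {p q : ℕ} {A : Set G} {R : G → Subgroup G}
  {χ : (↥(W₁.map L.subtype ⊔ W₂.map L.subtype) →* ℂˣ) → (G → ℂ)}

/-- The case division of Peterfalvi (9.7). -/
def ChiefCase (H H₀ U W₁ : Subgroup L) (p q : ℕ) : Prop :=
  ((∀ B : Subgroup L, H₀ ≤ B → B ≤ H → U ≤ Subgroup.normalizer (B : Set L) → B = H₀ ∨ B = H) ∧
      ∃ g ∈ U, ∀ b ∈ U, ∃ i : ℕ, (g ^ i)⁻¹ * b ∈ sectionCent H H₀) ∨
    ((∃ N₁ a, PF9.Lines H H₀ U W₁ N₁ p a) ∧
      ∃ a, a ∣ p - 1 ∧ (sectionCent H H₀).relIndex U ∣ a ^ (q - 1))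

/-- Peterfalvi (11.9). -/
theorem nonII_core (b : PF10.Base K W₁ W₂ A R χ) (s : PF9.Setting K H H₀ U W₁ W₂ p q)
    (hp2 : Nat.card W₂ = p) (hH : Group.IsNilpotent H)
    (hnc : ¬ Cfsg.IsCoherent (Cfsg.inducedIrrAbove K ⊥) ({1}ᶜ : Set L)
      (Cfsg.dadeIsometry A L R))
    (hcase : ChiefCase H H₀ U W₁ p q) :
    p < q ∧ IsMulCommutative U ∧ U ⊓ Subgroup.centralizer (H : Set L) = ⊥ ∧
      Cfsg.IsElementaryAbelian p H ∧ Nat.card H = p ^ q := by
  have hnil : Group.IsNilpotent ↥(K ⊓ sectionCent H H₀) := N_nilpotent s hp2 hH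
  rcases hcase with ⟨hgal, hcyc⟩ | ⟨hlines, a, ha, hu⟩
  · have hlt : p < q := lt_of_le_of_ne (le_of_not_gt (not_lt b s hp2 (Or.inl hgal) hnc hnil))
      (p_ne_q b s)
    haveI := b.K_normal
    haveI := b.derived_normal
    have hb := bound b s hnc hnil b.derived_lt b.X_coherent
    obtain ⟨hC, hH0⟩ := galois_trivial s hp2 hH (derived_eq_N s b.W₂_le hb) hgal hcyc
    refine ⟨hlt, ⟨⟨fun x y => ?_⟩⟩, ?_, ⟨⟨⟨fun x y => ?_⟩⟩, fun h hh => ?_⟩, ?_⟩
    · have hm : ⁅(x : L), (y : L)⁆ ∈ U ⊓ sectionCent H H₀ :=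
        ⟨Subgroup.commutator_le_self U (Subgroup.commutator_mem_commutator x.2 y.2),
          s.derived (Subgroup.commutator_mem_commutator x.2 y.2)⟩
      rw [hC] at hm
      have h := Subgroup.mem_bot.1 hm
      exact Subtype.ext (commutatorElement_eq_one_iff_mul_comm.1 h)
    · refine eq_bot_iff.2 fun x hx => ?_
      rw [← hC]
      haveI := s.H_normal
      haveI := s.H₀_normal
      refine ⟨hx.1, PF9.mem_sectionCent_iff.2 fun h hh => ?_⟩
      rw [← Subgroup.mem_centralizer_iff.1 hx.2 h hh, mul_inv_cancel_right, mul_inv_cancel]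
      exact one_mem _
    · have hm : ⁅(x : L), (y : L)⁆ ∈ H₀ := s.comm (Subgroup.commutator_mem_commutator x.2 y.2)
      rw [hH0] at hm
      have h := Subgroup.mem_bot.1 hm
      exact Subtype.ext (commutatorElement_eq_one_iff_mul_comm.1 h)
    · exact Subgroup.mem_bot.1 (hH0 ▸ s.pow_mem h hh)
    · rw [← s.index_H, hH0, Subgroup.relIndex_bot_left]
  · exact (not_split b s hp2 (Or.inr hlines) hnc hnil ha hu).elim

end Cfsg.Agent.OddOrder.PF11
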