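import Cfsg.Agent.OddOrder.PF11.NoTypeV
import Cfsg.Agent.OddOrder.PF11.TypeIII

/-!
# Peterfalvi (11.9), (10.9): no maximal subgroup is of Type IV or of Type V
-/

set_option autoImplicit false

namespace Cfsg.Agent.OddOrder.PF11

open Cfsg.Agent

universe u

variable {G : Type u} [Group G]

/-- The covering data of Peterfalvi (10.8), for a maximal subgroup not of Type II. -/
theorem cover_data [Fintype G] (hG : Cfsg.IsMinSimpleOddOrder G) {M : Subgroup G} (hM : IsCoatom M)
    (hII : ¬ Cfsg.IsOfTypeII M) (W₁ U W₂ : Subgroup G) (hP : Cfsg.IsTypePWith M W₁ U W₂) :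
    Nonempty (PF10.Cover (H43.dadeSupp ((↑⁅M, M⁆ : Set G) \ {1}) (Cfsg.supportR M)) W₁ W₂
      (Nat.card W₂) (Nat.card W₁)) :=
  PF10.cover_nonempty hG (BG16.sectionFacts hG) (S1379.result hG).2.2 hM hP hII rfl rfl

/-- No maximal subgroup is of Type IV. -/
theorem no_typeIV [Finite G] (hG : Cfsg.IsMinSimpleOddOrder G) (M : Subgroup G) (hM : IsCoatom M) :
    ¬ Cfsg.IsOfTypeIV M := by
  classical
  have : Fintype G := Fintype.ofFinite G
  exact not_isOfTypeIV hG hM

/-- No maximal subgroup is of Type V. -/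
theorem no_typeV [Finite G] (hG : Cfsg.IsMinSimpleOddOrder G) (M : Subgroup G) (hM : IsCoatom M) :
    ¬ Cfsg.IsOfTypeV M := by
  classical
  have : Fintype G := Fintype.ofFinite G
  exact not_isOfTypeV hG hM

end Cfsg.Agent.OddOrder.PF11
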