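import Cfsg.Agent.OddOrder.PF11.Exact

/-!
# Peterfalvi (11.8): the split case

Each column sum `c` of `γ` gives `γ` the coefficient `c d / u` on the image of an irreducible member
of degree `q d` of `S(H₀ C)`; the sum of the squares of these degrees is too large unless `c = 0`.
-/

set_option autoImplicit false
set_option linter.unusedSectionVars false
set_option linter.style.haveILetI false

open scoped ComplexConjugate

namespace Cfsg.Agent.OddOrder.PF11

open Cfsg.Agent H43 Finset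
open scoped Classical

universe u

variable {G : Type u} [Group G] [Fintype G] {L : Subgroup G} [Fintype L]
  {K H H₀ U W₁ W₂ : Subgroup L} {p q : ℕ} {A : Set G} {R : G → Subgroup G}
  {χ : (↥(W₁.map L.subtype ⊔ W₂.map L.subtype) →* ℂˣ) → (G → ℂ)}

theorem split_numeric {p q m u : ℕ} (hq : 5 ≤ q) (hpm : p = 2 * m + 1) (hm : 1 ≤ m)
    (hu : u ≤ m ^ (q - 1)) : u * (q * (q - 1) + (p - 1)) < p ^ q - 1 := by
  obtain ⟨k, rfl⟩ : ∃ k, q = k + 5 := ⟨q - 5, by omega⟩
  subst hpm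
  have h2 : ∀ k : ℕ, (k + 5) * (k + 4) + 4 ≤ 3 * 2 ^ (k + 4) := by
    intro k
    induction k with
    | zero => norm_num
    | succ k ih => rw [pow_succ]; nlinarith
  have hA : 1 ≤ m ^ (k + 4) := Nat.one_le_pow _ _ (by omega)
  have h3 : (2 * m) ^ (k + 4) * (2 * m + 1) ≤ (2 * m + 1) ^ (k + 5) := by
    rw [pow_succ (2 * m + 1)]
    exact Nat.mul_le_mul_right _ (Nat.pow_le_pow_left (by omega) _)
  rw [mul_pow] at h3
  have hB : (k + 5) * (k + 4) + 2 * m + 1 < 2 ^ (k + 4) * (2 * m + 1) := by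
    have hp2 : 16 ≤ 2 ^ (k + 4) := le_trans (by norm_num) (Nat.pow_le_pow_right two_pos
      (show 4 ≤ k + 4 by omega))
    obtain ⟨j, rfl⟩ : ∃ j, m = j + 1 := ⟨m - 1, by omega⟩
    nlinarith [h2 k, Nat.mul_le_mul_right (2 * j) hp2]
  simp only [show k + 5 - 1 = k + 4 by omega, show 2 * m + 1 - 1 = 2 * m by omega] at hu ⊢
  have h4 : u * ((k + 5) * (k + 4) + 2 * m) ≤ m ^ (k + 4) * ((k + 5) * (k + 4) + 2 * m) :=
    Nat.mul_le_mul_right _ hu
  have h5 := Nat.mul_lt_mul_of_pos_left hB (show 0 < m ^ (k + 4) by omega)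
  have h6 : m ^ (k + 4) * ((k + 5) * (k + 4) + 2 * m + 1) =
      m ^ (k + 4) * ((k + 5) * (k + 4) + 2 * m) + m ^ (k + 4) := by ring
  have h7 : m ^ (k + 4) * (2 ^ (k + 4) * (2 * m + 1)) = 2 ^ (k + 4) * m ^ (k + 4) * (2 * m + 1) := by
    ring
  omega

section

variable (b : PF10.Base K W₁ W₂ A R χ) (s : PF9.Setting K H H₀ U W₁ W₂ p q)

include b s

/-- `∑ φ(1)²` over the irreducible members of `S(H₀ C)` nontrivial on `H`, from below. -/
theorem irr_weight :
    (q : ℝ) * (sectionCent H H₀).relIndex U * ((p : ℝ) ^ q - 1) -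
        ((p : ℝ) - 1) * q * ((sectionCent H H₀).relIndex U : ℝ) ^ 2 ≤
      ∑ f ∈ (PF9.calS K H (H₀ ⊔ U ⊓ sectionCent H H₀)).filter
        (fun f : L → ℂ => Cfsg.IsIrrCharacter L f), PF6.weight f := by
  haveI := s.K_normal
  haveI := s.HC_normal
  haveI := s.N_normal
  haveI := s.H_normal
  set u := (sectionCent H H₀).relIndex U with hu
  set S := PF9.calS K H (H₀ ⊔ U ⊓ sectionCent H H₀) with hS
  set N := K ⊓ sectionCent H H₀ with hN
  have hle : H₀ ⊔ U ⊓ sectionCent H H₀ ≤ N :=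
    le_inf s.HC_le (sup_le (s.le.trans s.H_le_cent) inf_le_right)
  have hHN : H ≤ N := le_inf s.H_le s.H_le_cent
  -- the members of `S(H₀ C)` are those of `S(N)` and those nontrivial on `H`
  have hsplit : PF6.seqInd K (H₀ ⊔ U ⊓ sectionCent H H₀) = PF6.seqInd K N ∪ S := by
    ext f
    rw [mem_union]
    constructor
    · intro hf
      obtain ⟨θ, hθ, rfl⟩ := (PF6.mem_seqInd K).1 hf
      obtain ⟨hne, hker⟩ := (PF6.mem_thetas K).1 hθ
      by_cases hH : ∃ a : K, (a : L) ∈ H ∧ (θ : K → ℂ) a ≠ (θ : K → ℂ) 1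
      · exact Or.inr (PF9.mem_calS.2 ⟨θ, PF9.mem_thetasS.2 ⟨hker, hH⟩, rfl⟩)
      push Not at hH
      refine Or.inl ((PF6.mem_seqInd K).2 ⟨θ, (PF6.mem_thetas K).2 ⟨hne, fun a ha => ?_⟩, rfl⟩)
      have ha' : (a : L) ∈ H ⊔ U ⊓ sectionCent H H₀ := s.N_eq ▸ ha
      rw [← SetLike.mem_coe, Subgroup.normal_mul] at ha'
      obtain ⟨h, hh, c, hc, e⟩ := Set.mem_mul.1 ha'
      obtain rfl : a = ⟨h, s.H_le hh⟩ * ⟨c, s.U_le hc.1⟩ := Subtype.ext e.symm
      exact (CharBasic.IsChar.eq_one_mul (CharBasic.IsIrr.isCharacter θ.2)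
        (hH ⟨h, s.H_le hh⟩ hh) _).trans (hker ⟨c, s.U_le hc.1⟩ (Subgroup.mem_sup_right hc))
    · rintro (hf | hf)
      · exact PF6.seqInd_mono K hle hf
      · exact PF9.calS_subset _ _ _ hf
  have hdisj : Disjoint (PF6.seqInd K N) S := by
    refine Finset.disjoint_left.2 fun f hf hf' => ?_
    obtain ⟨θ, hθ, rfl⟩ := (PF6.mem_seqInd K).1 hf
    obtain ⟨θ', hθ', e⟩ := PF9.mem_calS.1 hf'
    obtain ⟨-, a, ha, hne⟩ := PF9.mem_thetasS.1 hθ'
    exact hne (((PF6.mem_thetas K).1 (PF6.mem_thetas_of_indFun_eq K hθ e.symm)).2 a (hHN ha))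
  have htot := PF6.sum_weight_seqInd K (H₀ ⊔ U ⊓ sectionCent H H₀)
  rw [hsplit, sum_union hdisj, PF6.sum_weight_seqInd K N, relIndex_HC b s, s.index_N,
    b.index_eq, s.card_W₁, ← hu] at htot
  push_cast at htot
  have hparts := Finset.sum_filter_add_sum_filter_not S (fun f : L → ℂ => Cfsg.IsIrrCharacter L f)
    PF6.weight
  have hred : ∑ f ∈ S.filter (fun f : L → ℂ => ¬ Cfsg.IsIrrCharacter L f), PF6.weight f ≤
      ((p : ℝ) - 1) * ((q : ℝ) * (u : ℝ) ^ 2) := by
    have hsub : S.filter (fun f : L → ℂ => ¬ Cfsg.IsIrrCharacter L f) ⊆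
        (PF9.fixedS K H W₁ H₀).image fun θ : Cfsg.IrrCharacter K => Cfsg.indFun K (θ : K → ℂ) := by
      intro f hf
      obtain ⟨hfS, hni⟩ := mem_filter.1 hf
      obtain ⟨θ, hθ, rfl⟩ := PF9.mem_calS.1 hfS
      rcases s.indFun_cases le_sup_left hθ with ⟨-, hi⟩ | ⟨hm, -⟩
      · exact absurd hi hni
      · exact mem_image_of_mem _ hm
    have hw : ∀ f ∈ S.filter (fun f : L → ℂ => ¬ Cfsg.IsIrrCharacter L f),
        PF6.weight f = (q : ℝ) * (u : ℝ) ^ 2 := by
      intro f hf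
      obtain ⟨hfS, hni⟩ := mem_filter.1 hf
      obtain ⟨θ, hθ, rfl⟩ := PF9.mem_calS.1 hfS
      rcases s.indFun_cases le_sup_left hθ with ⟨-, hi⟩ | ⟨-, hd, hn, -, -⟩
      · exact absurd hi hni
      · rw [PF6.weight, hd, hn, ← hu]
        simp only [Nat.cast_mul, Complex.mul_re, Complex.natCast_re, Complex.natCast_im, mul_zero,
          sub_zero]
        have hq0 : (q : ℝ) ≠ 0 := by exact_mod_cast s.q_prime.ne_zero
        field_simp
    rw [sum_congr rfl hw, sum_const, nsmul_eq_mul]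
    refine mul_le_mul_of_nonneg_right ?_ (by positivity)
    have hc : ((S.filter (fun f : L → ℂ => ¬ Cfsg.IsIrrCharacter L f)).card) ≤ p - 1 :=
      ((card_le_card hsub).trans card_image_le).trans_eq s.card_fixedS
    have hc' : ((S.filter (fun f : L → ℂ => ¬ Cfsg.IsIrrCharacter L f)).card : ℝ) ≤
        ((p - 1 : ℕ) : ℝ) := by exact_mod_cast hc
    rwa [Nat.cast_sub s.p_prime.one_le, Nat.cast_one] at hc'
  nlinarith

variable (hp2 : Nat.card W₂ = p) (hcase : Dichotomy H H₀ U W₁ p)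
  (hnc : ¬ Cfsg.IsCoherent (Cfsg.inducedIrrAbove K ⊥) ({1}ᶜ : Set L)
    (Cfsg.dadeIsometry A L R)) (hnil : Group.IsNilpotent ↥(K ⊓ sectionCent H H₀))

include hp2 hcase hnc hnil

/-- Peterfalvi (11.8): the split case does not occur. -/
theorem not_split {a : ℕ} (ha : a ∣ p - 1) (hu : (sectionCent H H₀).relIndex U ∣ a ^ (q - 1)) :
    False := by
  have hne := p_ne_q b s
  have hnlt := not_lt b s hp2 hcase hnc hnil
  have hpq : p < q := lt_of_le_of_ne (le_of_not_gt hnlt) hne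
  obtain ⟨m, hm⟩ : Odd p := s.p_prime.odd_of_ne_two (by have := s.two_lt_p; omega)
  have hq5 : 5 ≤ q := by
    have h3 := s.two_lt_p
    have : Odd q := s.q_prime.odd_of_ne_two (by omega)
    obtain ⟨j, hj⟩ := this
    omega
  set u := (sectionCent H H₀).relIndex U with hudef
  have hule : u ≤ m ^ (q - 1) := by
    refine Nat.le_of_dvd (pow_pos (by have := s.two_lt_p; omega) _) ?_
    have hodd : Odd u := s.odd.of_dvd_nat
      ((Subgroup.relIndex_dvd_card _ _).trans (Subgroup.card_subgroup_dvd_card U))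
    refine (Nat.Coprime.pow_right (q - 1) hodd.coprime_two_right).dvd_of_dvd_mul_left
      (m := 2 ^ (q - 1)) ?_
    rw [← mul_pow]
    exact hu.trans (pow_dvd_pow_of_dvd (by rwa [hm, Nat.add_sub_cancel] at ha) _)
  have hnum := split_numeric hq5 hm (by have := s.two_lt_p; omega) hule
  obtain ⟨ζ₀, φ₀, hp⟩ := exists_pivot b s hp2 hcase hnc hnil
  obtain ⟨τ₁, hτ₁, hagree⟩ := exists_extension b s hp2 hcase
  set T := (PF9.calS K H (H₀ ⊔ U ⊓ sectionCent H H₀)).filter
    (fun f : L → ℂ => Cfsg.IsIrrCharacter L f) with hT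
  have hW := irr_weight b s
  rw [← hT, ← hudef] at hW
  have hupos : (1 : ℝ) < u := by exact_mod_cast one_lt_u b s
  have hqpos : (0 : ℝ) < q := by exact_mod_cast s.q_prime.pos
  have hnumR : (u : ℝ) * ((q : ℝ) * ((q : ℝ) - 1) + ((p : ℝ) - 1)) < (p : ℝ) ^ q - 1 := by
    have h : ((u * (q * (q - 1) + (p - 1)) : ℕ) : ℝ) < ((p ^ q - 1 : ℕ) : ℝ) := by exact_mod_cast hnum
    rw [Nat.cast_sub (Nat.one_le_pow _ _ s.p_prime.pos)] at h
    push_cast [Nat.cast_sub s.p_prime.one_le, Nat.cast_sub s.q_prime.one_le] at h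
    exact h
  have hbigW : (q : ℝ) ^ 2 * (u : ℝ) ^ 2 * ((q : ℝ) - 1) < ∑ f ∈ T, PF6.weight f := by
    refine lt_of_lt_of_le ?_ hW
    have h := mul_lt_mul_of_pos_left hnumR (mul_pos hqpos (by linarith : (0 : ℝ) < u))
    nlinarith
  have hTne : T.Nonempty := by
    by_contra hc
    rw [not_nonempty_iff_eq_empty] at hc
    rw [hc, sum_empty] at hbigW
    have : (1 : ℝ) ≤ q := by exact_mod_cast s.q_prime.one_le
    nlinarith [mul_nonneg (mul_nonneg (sq_nonneg (q : ℝ)) (sq_nonneg (u : ℝ)))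
      (sub_nonneg.2 this)]
  obtain ⟨f₀, hf₀⟩ := hTne
  set γ := PF10.gam A R K ζ₀ with hγ
  have hgen := b.gen_gam hp.mem
  obtain ⟨hN, hone⟩ := b.gam_norm hp.mem
  have hmono := PF9.calS_mono (K := K) (H := H) s.A₀_le_HC
  choose c hc using fun ω => gen_inner_int hgen (PF4.DadeHyp.eta_signed b.family ω).gen
  obtain ⟨k, hk⟩ := gen_inner_int hgen hp.gen
  set x : (L → ℂ) → ℤ := fun a => k + if a = ζ₀ then 0 else 1 with hx
  have hxe : ∀ a ∈ PF10.X K, Cfsg.classInner γ (b.phi ζ₀ φ₀ a) = x a := fun a ha => by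
    rw [hγ, b.inner_gam_phi hp ha, ← hγ, hk, hx]
    split_ifs with h <;> simp [h]
  have hTA : ∀ f ∈ T, f ∈ PF9.calS K H (PF9.A₀ K H H₀) := fun f hf => hmono (mem_filter.1 hf).1
  have hzint : ∀ f ∈ T, ∃ n : ℤ, Cfsg.classInner γ (τ₁ f) = n := fun f hf =>
    gen_inner_int hgen (iso_gen hτ₁ (zspan_mem (mem_coe.2 (hTA f hf))))
  let z : (L → ℂ) → ℤ := fun f => if h : f ∈ T then (hzint f h).choose else 0
  have hz : ∀ f ∈ T, Cfsg.classInner γ (τ₁ f) = z f := fun f hf => by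
    simp only [z, dif_pos hf]
    exact (hzint f hf).choose_spec
  -- Bessel with the images of the irreducible members
  have hbudget : ∑ ω, c ω ^ 2 + ∑ a ∈ PF10.X K, x a ^ 2 + ∑ f ∈ T, z f ^ 2 ≤ (q : ℤ) + 1 := by
    let F : ((↥(W₁ ⊔ W₂) →* ℂˣ) ⊕ (L → ℂ)) ⊕ (L → ℂ) → G → ℂ :=
      Sum.elim (Sum.elim (PF4.eta χ) (b.phi ζ₀ φ₀)) τ₁
    let C : ((↥(W₁ ⊔ W₂) →* ℂˣ) ⊕ (L → ℂ)) ⊕ (L → ℂ) → ℤ := Sum.elim (Sum.elim c x) z
    let sI : Finset (((↥(W₁ ⊔ W₂) →* ℂˣ) ⊕ (L → ℂ)) ⊕ (L → ℂ)) :=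
      ((univ : Finset (↥(W₁ ⊔ W₂) →* ℂˣ)).disjSum (PF10.X K)).disjSum T
    have ho := fun f (hf : f ∈ T) => b.orth_of_coherent hτ₁ hagree
      (fun g hg => PF6.seqInd_subset_inducedIrr _ (PF9.calS_subset _ _ _ hg))
      (mem_coe.2 (hTA f hf)) (mem_coe.2 (PF9.calS_conj (hTA f hf))) (mem_filter.1 hf).2
      (calS_not_X b s le_sup_left (mem_filter.1 hf).1) hp
    have h := PF9.bessel_int sI F (fun i hi j hj => ?_) C (β := γ) (fun i hi => ?_)
      (N := ((q : ℤ) + 1 : ℤ)) (by rw [hγ, hN, s.card_W₁]; push_cast; ring)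
    · simp only [sI, sum_disjSum, F, C, Sum.elim_inl, Sum.elim_inr] at h
      exact_mod_cast h.1
    · rcases i with (ω | a) | f <;> rcases j with (ω' | a') | f' <;>
        simp only [sI, inl_mem_disjSum, inr_mem_disjSum] at hi hj <;>
        simp only [F, Sum.elim_inl, Sum.elim_inr, Sum.inl.injEq, Sum.inr.injEq, reduceCtorEq,
          if_false]
      · exact PF4.DadeHyp.eta_orth b.family ω ω'
      · rw [← CharInduce.conj_classInner, b.phi_orth_eta hp hj, map_zero]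
      · rw [← CharInduce.conj_classInner, (ho f' hj).1, map_zero]
      · exact b.phi_orth_eta hp hi _
      · exact b.phi_inner hp hi hj
      · rw [← CharInduce.conj_classInner, (ho f' hj).2 a hi, map_zero]
      · exact (ho f hi).1 _
      · exact (ho f hi).2 a' hj
      · rw [iso_inner hτ₁ (zspan_mem (mem_coe.2 (hTA f hi))) (zspan_mem (mem_coe.2 (hTA f' hj)))]
        split_ifs with e
        · subst e; exact CharBasic.classInner_irr_self (mem_filter.1 hi).2
        · exact CharBasic.classInner_irr_of_ne (mem_filter.1 hi).2 (mem_filter.1 hj).2 e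
    · rcases i with (ω | a) | f <;> simp only [sI, inl_mem_disjSum, inr_mem_disjSum] at hi
      · exact hc ω
      · exact hxe a hi
      · exact hz f hi
  have hc1 : c 1 = 1 := by
    have := hc 1
    rw [b.dadeHyp.eta_one b.family, hone] at this
    exact_mod_cast this.symm
  have hlow : (1 : ℤ) ≤ ∑ ω, c ω ^ 2 := by
    refine le_trans ?_ (single_le_sum (fun ω _ => sq_nonneg (c ω)) (mem_univ 1))
    rw [hc1]; norm_num
  have hxlow : (1 : ℤ) ≤ ∑ a ∈ PF10.X K, x a ^ 2 := by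
    obtain ⟨a, ha, hane⟩ := exists_mem_ne (by have := b.two_le_card_X; omega :
      1 < (PF10.X K).card) ζ₀
    refine le_trans ?_ (sum_le_sum_of_subset_of_nonneg (s := {ζ₀, a})
      (by simp [insert_subset_iff, hp.mem, ha]) fun i _ _ => sq_nonneg _)
    rw [sum_pair hane.symm, hx]
    simp only [if_pos, if_neg hane, add_zero]
    rcases le_or_gt 0 k with h | h <;> nlinarith
  -- every column sum vanishes
  have hcol : ∀ ψ ∈ PF10.colSet W₁ W₂, PF10.colSum γ χ ψ = 0 := by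
    intro ψ hψ
    obtain ⟨n, hn⟩ := gen_inner_int hgen (iso_gen hτ₁
      (zspan_mem (mem_coe.2 (hmono (red_mem_calS b s hp2 hψ)))))
    have hn0 : n = 0 := by
      by_contra hn0
      have hn1 : (1 : ℝ) ≤ (n : ℝ) ^ 2 := by exact_mod_cast (sq_pos_iff.2 hn0 : (0 : ℤ) < n ^ 2)
      have hlow' : ∀ f ∈ T, PF6.weight f ≤ (q : ℝ) ^ 2 * (u : ℝ) ^ 2 * (z f : ℝ) ^ 2 := by
        intro f hf
        obtain ⟨hfS, hi⟩ := mem_filter.1 hf
        obtain ⟨θ, hθ, rfl⟩ := PF9.mem_calS.1 hfS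
        obtain ⟨d, -, hd⟩ := CharBasic.IsIrr.exists_degree θ.2
        have hd' : Cfsg.indFun K (θ : K → ℂ) 1 = ((q * d : ℕ) : ℂ) := by
          rw [CharInduce.indFun_one, hd, s.hyp.index_eq, s.card_W₁, Nat.cast_mul]
        rw [PF9.weight_of_irr hi hd']
        have hrel := member_relation b s hp2 hcase hτ₁ hagree hfS hd' hψ γ
        have hf0 : Cfsg.classInner (Cfsg.dadeIsometry A L R
            (((u : ℕ) : ℤ) • Cfsg.indFun K (θ : K → ℂ) - (d : ℤ) • b.dadeHyp.prime.red ψ)) γ =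
            0 := by
          have hz' : ((u : ℕ) : ℤ) • Cfsg.indFun K (θ : K → ℂ) - (d : ℤ) • b.dadeHyp.prime.red ψ ∈
              Cfsg.zspanOn (↑(PF9.calS K H (PF9.A₀ K H H₀)) : Set (L → ℂ)) ({1}ᶜ : Set L) :=
            zspanOn_compl_one.2 ⟨zspan_sub (zspan_zsmul (zspan_mem (mem_coe.2 (hTA _ hf))) _)
              (zspan_zsmul (zspan_mem (mem_coe.2 (hmono (red_mem_calS b s hp2 hψ)))) _), by
                simp [hd', b.dadeHyp.prime.red_one, mu_one_eq b s hp2 hψ]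
                rw [← Nat.card_eq_fintype_card, s.card_W₁]
                ring⟩
          have hsp := b.dadeHyp.span_vanish b.supp
            (S := (↑(PF9.calS K H (PF9.A₀ K H H₀)) : Set (L → ℂ)))
            (fun φ hφ => b.mem_bot_spec subset_rfl
              (PF6.seqInd_subset_inducedIrr _ (PF9.calS_subset _ _ _ hφ))) hz'.1
          rw [hγ, PF10.gam, PF10.inner_dade b.dadeHyp.dade (gen_isClassFunction hsp.1)
            (fun g hg => by
              by_cases e : g = 1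
              · exact e ▸ (zspanOn_compl_one.1 hz').2
              · exact hsp.2 g e hg)
            (gen_isClassFunction (b.gen_beta hp.mem)) (b.beta_A hp.mem), PF10.beta]
          have hne1 : ∀ ω, Cfsg.indFun K (θ : K → ℂ) ≠ b.dadeHyp.prime.mu ω :=
            fun ω => b.dadeHyp.prime.ind_ne_mu _ ω
          have h1 : Cfsg.classInner (Cfsg.indFun K (θ : K → ℂ))
              (Cfsg.indFun K fun _ => (1 : ℂ)) = 0 := by
            rw [← b.red_one_eq, b.dadeHyp.prime.classInner_irr_red hi hne1]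
          have h2 : Cfsg.classInner (b.dadeHyp.prime.red ψ)
              (Cfsg.indFun K fun _ => (1 : ℂ)) = 0 := by
            rw [← b.red_one_eq, b.dadeHyp.prime.classInner_red_ne fun h =>
              b.colSet_not_trivR hψ fun w hw => by rw [h w hw, MonoidHom.one_apply]]
          have h3 : Cfsg.classInner (Cfsg.indFun K (θ : K → ℂ)) ζ₀ = 0 :=
            CharBasic.classInner_irr_of_ne hi (b.X_irr hp.mem).1
              fun e => calS_not_X b s le_sup_left hfS (e ▸ hp.mem)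
          simp only [CharBasic.classInner_sub_left, CharBasic.classInner_sub_right,
            H43.classInner_zsmul_left, h1, h2, h3, (b.X_orth_red hp.mem ψ).2, mul_zero, sub_zero]
        rw [hf0, ← CharInduce.conj_classInner (φ := γ) (ψ := τ₁ (Cfsg.indFun K _)), hz _ hf,
          ← CharInduce.conj_classInner (φ := γ) (ψ := τ₁ (b.dadeHyp.prime.red ψ)), hn,
          map_intCast, map_intCast] at hrel
        have h4 : ((u : ℝ) * (z (Cfsg.indFun K (θ : K → ℂ)) : ℝ)) = (d : ℝ) * n := by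
          have : (((u : ℤ) * z (Cfsg.indFun K (θ : K → ℂ)) : ℤ) : ℂ) = (((d : ℤ) * n : ℤ) : ℂ) := by
            push_cast
            linear_combination -hrel
          exact_mod_cast (Int.cast_injective this)
        have h5 : ((u : ℝ) * (z (Cfsg.indFun K (θ : K → ℂ)) : ℝ)) ^ 2 = (d : ℝ) ^ 2 * (n : ℝ) ^ 2 := by
          rw [h4]; ring
        push_cast
        nlinarith [mul_le_mul_of_nonneg_left hn1 (mul_nonneg (sq_nonneg (q : ℝ)) (sq_nonneg (d : ℝ)))]
      have hsum : ∑ f ∈ T, PF6.weight f ≤ (q : ℝ) ^ 2 * (u : ℝ) ^ 2 * ((q : ℝ) - 1) := by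
        refine (sum_le_sum hlow').trans ?_
        rw [← mul_sum]
        refine mul_le_mul_of_nonneg_left ?_ (by positivity)
        have h : ∑ f ∈ T, z f ^ 2 ≤ (q : ℤ) - 1 := by linarith
        exact_mod_cast h
      linarith
    have hδ : ∀ ε : ℂ, ε = 1 ∨ ε = -1 → conj ε = ε ∧ ε ≠ 0 := by rintro ε (rfl | rfl) <;> simp
    obtain ⟨hδc, hδ0⟩ := hδ _ (b.dadeHyp.prime.delta_eq ψ)
    have hsymc : PF10.colSum γ χ ψ⁻¹ = PF10.colSum γ χ ψ := by
      simp only [PF10.colSum]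
      refine sum_bij' (fun φ _ => φ⁻¹) (fun φ _ => φ⁻¹) ?_ ?_ (fun φ _ => inv_inv φ)
        (fun φ _ => inv_inv φ) fun φ _ => ?_
      · intro φ hφ
        simp only [mem_filter, mem_univ, true_and] at hφ ⊢
        exact fun w hw => by simp [hφ w hw]
      · intro φ hφ
        simp only [mem_filter, mem_univ, true_and] at hφ ⊢
        exact fun w hw => by simp [hφ w hw]
      · rw [hγ, ← b.gam_sym hp.mem (φ⁻¹ * ψ), show (φ⁻¹ * ψ)⁻¹ = φ * ψ⁻¹ from by
          ext; simp [mul_comm]]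
    rw [hn0, Int.cast_zero] at hn
    rcases red_cases b s hp2 hcase hτ₁ hagree (mem_filter.1 hf₀).1 (mem_filter.1 hf₀).2 hψ with
      e | e <;> rw [e, CharBasic.classInner_smul_right, CharBasic.classInner_sum_right] at hn
    · simp only [PF10.colSum]
      exact (mul_eq_zero.1 hn).resolve_left (by rw [hδc]; exact hδ0)
    · rw [← hsymc]
      simp only [PF10.colSum]
      exact (mul_eq_zero.1 hn).resolve_left (by rw [map_neg, hδc]; exact neg_ne_zero.2 hδ0)
  obtain ⟨φ₁, hp₁, hx₁⟩ := b.exists_exact_of_cols hp hcol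
  exact false_of_exact b s hp2 hcase hnc hnil hp₁ hx₁

end

end Cfsg.Agent.OddOrder.PF11
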