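import Cfsg.Agent.OddOrder.PF10.Reducible
import Cfsg.Agent.OddOrder.PF14.Basic
import Cfsg.Agent.OddOrder.PF6.Coherence
import Cfsg.Agent.OddOrder.PF6.Pivot

/-!
# Tools for Peterfalvi section 11 on the common setting of section 10
-/

set_option autoImplicit false
set_option linter.unusedSectionVars false

open scoped ComplexConjugate

namespace Cfsg.Agent.OddOrder.PF10

open Cfsg.Agent H43 Finset
open scoped Classical

universe u

variable {G : Type u} [Group G] [Fintype G] {L : Subgroup G} [Fintype L] {K W₁ W₂ : Subgroup L}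
  {A : Set G} {R : G → Subgroup G}
  {χ : (↥(W₁.map L.subtype ⊔ W₂.map L.subtype) →* ℂˣ) → (G → ℂ)}

namespace Base

variable (b : Base K W₁ W₂ A R χ)

include b

/-- The coherence system of all the induced characters. -/
theorem exists_system_bot :
    ∃ Rs : (L → ℂ) → Finset (G → ℂ),
      Cfsg.IsCoherenceSystem (Cfsg.inducedIrrAbove K ⊥) (Cfsg.dadeIsometry A L R) Rs ∧
      (∀ φ ∈ Cfsg.inducedIrrAbove K ⊥, Cfsg.IsIrrCharacter L φ →
        ∀ r ∈ Rs φ, ∀ ω, Cfsg.classInner r (PF4.eta χ ω) = 0) ∧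
      (∀ ψ, TrivL ψ → Rs (b.dadeHyp.prime.red ψ) = b.dadeHyp.redR χ ψ) :=
  b.dadeHyp.exists_system b.family b.supp b.odd
    (b.X_nonempty.elim fun a ha => ⟨a, b.X_sub ha⟩)
    (fun _ hφ => PF6.inducedIrrAbove_conj K hφ) fun _ hφ => b.mem_bot_spec subset_rfl hφ

/-- The characters of degree `[L : K]` form a coherent set. -/
theorem X_coherent :
    Cfsg.IsCoherent (Cfsg.inducedIrrAbove K ⁅K, K⁆) ({1}ᶜ : Set L)
      (Cfsg.dadeIsometry A L R) := by
  obtain ⟨Rs, hS, -, -⟩ := b.exists_system_bot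
  rw [← PF6.coe_seqInd]
  exact PF6.coherent_const_degree hS b.X_sub
    (b.X_nonempty.elim fun a ha => ⟨a, mem_coe.2 ha⟩) (fun φ hφ => b.X_conj hφ)
    fun φ hφ ψ hψ => by rw [b.X_one hφ, b.X_one hψ]

/-- `|W₁| |X| = |K : K'| - 1`. -/
theorem card_X : ((X K).card : ℤ) * Nat.card W₁ = ((⁅K, K⁆ : Subgroup L).relIndex K : ℤ) - 1 := by
  have := b.K_normal
  have := b.derived_normal
  have h := PF6.sum_weight_seqInd K (⁅K, K⁆ : Subgroup L)
  rw [sum_congr rfl (g := fun _ => (Nat.card W₁ : ℝ) ^ 2) fun a ha => by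
    rw [PF6.weight, b.X_one ha, b.X_orth ha ha, if_pos rfl]; simp, sum_const, nsmul_eq_mul,
    b.index_eq] at h
  have hq : (Nat.card W₁ : ℝ) ≠ 0 := by exact_mod_cast Nat.card_pos.ne'
  have h' : ((X K).card : ℝ) * Nat.card W₁ = ((⁅K, K⁆ : Subgroup L).relIndex K : ℝ) - 1 :=
    mul_right_cancel₀ hq (by linear_combination h)
  exact_mod_cast h'

/-- The bound on `n` needed for the key equation of a column. -/
theorem n_le_card_X {ψ : ↥(W₁ ⊔ W₂) →* ℂˣ} {d : ℕ} (hd : b.dadeHyp.prime.mu ψ 1 = d)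
    (hle : d ≤ (⁅K, K⁆ : Subgroup L).relIndex K) (n : ℤ)
    (hn : b.dadeHyp.prime.mu ψ 1 = b.dadeHyp.prime.delta ψ + n * (Nat.card W₁ : ℂ)) :
    n ≤ (X K).card := by
  have h3 : (3 : ℤ) ≤ Nat.card W₁ := by exact_mod_cast b.three_le
  have hX := b.card_X
  have hle' : (d : ℤ) ≤ ((⁅K, K⁆ : Subgroup L).relIndex K : ℤ) := by exact_mod_cast hle
  rw [hd] at hn
  rcases b.dadeHyp.prime.delta_eq ψ with e | e <;> rw [e] at hn
  · have h : (d : ℤ) = 1 + n * (Nat.card W₁ : ℤ) := by exact_mod_cast hn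
    by_contra hc
    nlinarith [mul_le_mul_of_nonneg_right (show ((X K).card : ℤ) + 1 ≤ n by omega)
      (show (0 : ℤ) ≤ Nat.card W₁ by linarith)]
  · have h : (d : ℤ) = -1 + n * (Nat.card W₁ : ℤ) := by exact_mod_cast hn
    by_contra hc
    nlinarith [mul_le_mul_of_nonneg_right (show ((X K).card : ℤ) + 1 ≤ n by omega)
      (show (0 : ℤ) ≤ Nat.card W₁ by linarith)]

/-- Members of `X` satisfy the key equation. -/
theorem key_X {ζ₀ : L → ℂ} {φ₀ : G → ℂ} (hp : Pivot A R K χ ζ₀ φ₀) {a : L → ℂ} (ha : a ∈ X K) :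
    Key A R K ζ₀ φ₀ a := by
  intro d hd
  rw [b.X_one ha, b.index_eq] at hd
  have hd1 : d = 1 := by
    have h : Nat.card W₁ * 1 = Nat.card W₁ * d := by rw [mul_one]; exact_mod_cast hd
    exact (Nat.eq_of_mul_eq_mul_left Nat.card_pos h).symm
  subst hd1
  rw [Nat.cast_one, one_smul, hp.key a ha]
  simp

/-- The key equation on all members gives coherence. -/
theorem coherent_of_key {ζ₀ : L → ℂ} {φ₀ : G → ℂ} (hp : Pivot A R K χ ζ₀ φ₀)
    (T : Finset (L → ℂ)) (hT : (↑T : Set (L → ℂ)) ⊆ Cfsg.inducedIrrAbove K ⊥) (hX : X K ⊆ T)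
    (hkey : ∀ a ∈ T, Key A R K ζ₀ φ₀ a) :
    Cfsg.IsCoherent (↑T : Set (L → ℂ)) ({1}ᶜ : Set L) (Cfsg.dadeIsometry A L R) := by
  obtain ⟨Rs, hS, -, -⟩ := b.exists_system_bot
  have hd : ∀ a ∈ T, ∃ d : ℕ, a 1 = ((K.index * d : ℕ) : ℂ) := fun a ha => by
    obtain ⟨θ, hθ, -, -, rfl⟩ := hT ha
    obtain ⟨m, -, hm⟩ := CharBasic.IsIrr.exists_degree hθ
    exact ⟨m, by rw [CharInduce.indFun_one, hm, Nat.cast_mul]⟩
  let d : (L → ℂ) → ℕ := fun a => if h : a ∈ T then (hd a h).choose else 0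
  have hdeq : ∀ a ∈ T, a 1 = ((K.index * d a : ℕ) : ℂ) := fun a ha => by
    simp only [d, dif_pos ha]
    exact (hd a ha).choose_spec
  refine PF6.coherent_of_pivot T _ hT _ hS.isometry
    (fun a ha => H43.sys_ne_zero hS (hT ha))
    (fun a ha c hc hne => hS.orthogonal a (hT ha) c (hT hc) hne) (hX hp.mem)
    (by rw [b.X_orth hp.mem hp.mem, if_pos rfl]) (e := K.index)
    (b.index_eq ▸ Nat.card_pos) (by rw [b.X_one hp.mem, b.index_eq]) d hdeq hp.gen hp.norm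
    (fun a ha => hkey a ha (d a) (hdeq a ha)) ?_
  refine ⟨Cfsg.conjFun ζ₀, hX (b.X_conj hp.mem), b.X_conj_ne hp.mem⟩

/-- The image of an irreducible member outside `X` of a coherent set is orthogonal to the grid and
to the family of a pivot. -/
theorem orth_of_coherent {T : Set (L → ℂ)} {τ₁ : (L → ℂ) → (G → ℂ)}
    (hτ₁ : Cfsg.IsLinearIsometryOn (Cfsg.zspan T) τ₁)
    (hagree : ∀ α ∈ Cfsg.zspanOn T ({1}ᶜ : Set L), τ₁ α = Cfsg.dadeIsometry A L R α)
    (hT : T ⊆ Cfsg.inducedIrrAbove K ⊥) {f : L → ℂ} (hf : f ∈ T) (hfc : Cfsg.conjFun f ∈ T)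
    (hi : Cfsg.IsIrrCharacter L f) (hfX : f ∉ X K) {ζ₀ : L → ℂ} {φ₀ : G → ℂ}
    (hp : Pivot A R K χ ζ₀ φ₀) :
    (∀ ω, Cfsg.classInner (τ₁ f) (PF4.eta χ ω) = 0) ∧
      ∀ a ∈ X K, Cfsg.classInner (τ₁ f) (b.phi ζ₀ φ₀ a) = 0 := by
  obtain ⟨Rs, hS, hirr, -⟩ := b.exists_system_bot
  refine ⟨fun ω => ?_, fun a ha => ?_⟩
  · rw [sys_image_eq_proj hS hτ₁ hagree (hT hf) hf hfc, proj, CharBasic.classInner_sum_left]
    exact sum_eq_zero fun r hr => by
      rw [CharBasic.classInner_smul_left, hirr _ (hT hf) hi r hr ω, mul_zero]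
  have hfi : Cfsg.IsIrrCharacter L (Cfsg.conjFun f) := CharInduce.IsIrr.conj hi
  have hfne : Cfsg.conjFun f ≠ f := hS.conj_ne f (hT hf)
  have hac := b.X_conj ha
  have hane := b.X_conj_ne ha
  have hgenphi : ∀ c ∈ X K, Cfsg.IsGeneralizedCharacter G (b.phi ζ₀ φ₀ c) := fun c hc =>
    gen_add hp.gen (gen_dade b.dadeHyp.dade (gen_sub (b.gen_X hc) (b.gen_X hp.mem))
      (b.diff_A hc hp.mem))
  have hsig : ∀ c ∈ X K, Signed (b.phi ζ₀ φ₀ c) := fun c hc =>
    signed_of_norm_one (hgenphi c hc) (by rw [b.phi_inner hp hc hc, if_pos rfl])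
  have hdiff : b.phi ζ₀ φ₀ a - b.phi ζ₀ φ₀ (Cfsg.conjFun a) =
      Cfsg.dadeIsometry A L R (a - Cfsg.conjFun a) := by
    simp only [phi]
    rw [show a - Cfsg.conjFun a = (a - ζ₀) - (Cfsg.conjFun a - ζ₀) by abel,
      PF4.dade_sub (a - ζ₀)]
    abel
  have hz : f - Cfsg.conjFun f ∈ Cfsg.zspanOn T ({1}ᶜ : Set L) := zspanOn_compl_one.2
    ⟨zspan_sub (zspan_mem hf) (zspan_mem hfc), by
      obtain ⟨m, hm⟩ := CharBasic.IsChar.exists_degree (CharBasic.IsIrr.isCharacter hi)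
      simp [Cfsg.conjFun, hm]⟩
  have hdiff' : τ₁ f - τ₁ (Cfsg.conjFun f) = Cfsg.dadeIsometry A L R (f - Cfsg.conjFun f) := by
    rw [← hagree _ hz, iso_sub hτ₁ (zspan_mem hf) (zspan_mem hfc) hz.1]
  refine signed_orth2 (p := 1) (q := 1) (u := 1) (v := 1)
    (signed_of_norm_one (iso_gen hτ₁ (zspan_mem hf)) (by
      rw [iso_inner hτ₁ (zspan_mem hf) (zspan_mem hf), CharBasic.classInner_irr_self hi]))
    (signed_of_norm_one (iso_gen hτ₁ (zspan_mem hfc)) (by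
      rw [iso_inner hτ₁ (zspan_mem hfc) (zspan_mem hfc), CharBasic.classInner_irr_self hfi]))
    (hsig a ha) (hsig _ hac) one_ne_zero one_ne_zero one_ne_zero
    (by rw [iso_inner hτ₁ (zspan_mem hf) (zspan_mem hfc),
      CharBasic.classInner_irr_of_ne hi hfi hfne.symm])
    (by rw [b.phi_inner hp ha hac, if_neg hane.symm]) ?_ ?_ ?_
  · simp only [Complex.ofReal_one, one_smul]
    have hne : ∀ g, Cfsg.IsIrrCharacter L g → g ∉ X K → ∀ c ∈ X K, Cfsg.classInner g c = 0 :=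
      fun g hg hgX c hc => CharBasic.classInner_irr_of_ne hg (b.X_irr hc).1 fun e => hgX (e ▸ hc)
    have hfcX : Cfsg.conjFun f ∉ X K := fun h => hfX (by
      simpa [H43.conjFun_conjFun] using b.X_conj h)
    have hsp := b.dadeHyp.span_vanish b.supp (S := T)
      (fun φ hφ => b.mem_bot_spec subset_rfl (hT hφ)) hz.1
    have hzA : ∀ g : L, (g : G) ∉ A → (f - Cfsg.conjFun f) g = 0 := fun g hg => by
      by_cases e : g = 1
      · exact e ▸ (zspanOn_compl_one.1 hz).2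
      · exact hsp.2 g e hg
    rw [hdiff, hdiff', inner_dade b.dadeHyp.dade (gen_isClassFunction hsp.1) hzA
      (gen_isClassFunction (gen_sub (b.gen_X ha) (b.gen_X hac))) (b.diff_A ha hac)]
    simp only [CharBasic.classInner_sub_left, CharBasic.classInner_sub_right, hne f hi hfX a ha,
      hne f hi hfX _ hac, hne _ hfi hfcX a ha, hne _ hfi hfcX _ hac, sub_self]
  · simp only [Complex.ofReal_one, one_mul]
    have h := congrFun hdiff' 1
    rw [PF4.dade_one b.dadeHyp.dade, Pi.sub_apply, sub_eq_zero] at h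
    exact h
  · simp only [Complex.ofReal_one, one_mul]
    have h := congrFun hdiff 1
    rw [PF4.dade_one b.dadeHyp.dade, Pi.sub_apply, sub_eq_zero] at h
    exact h

end Base

end Cfsg.Agent.OddOrder.PF10
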