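import Cfsg.Agent.OddOrder.PF10.Base
import Cfsg.Agent.OddOrder.PF4.Subcoherent
import Cfsg.Agent.OddOrder.PF4.TypeP
import Cfsg.Agent.OddOrder.PF6.SibleyPrime
import Cfsg.Agent.OddOrder.Sigma.Basic
import Cfsg.Agent.Cores.PCore

/-!
# Peterfalvi section 11, Type V: the characters induced from `M'` are coherent

`coherent_or_cube`: for a maximal subgroup of Type V, either all of `S(M')` is coherent or `|M'| = p³`
with `|W₁|` dividing `p + 1`.
-/

set_option autoImplicit false
set_option linter.unusedSectionVars false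
set_option linter.style.haveILetI false

open scoped ComplexConjugate

namespace Cfsg.Agent.OddOrder.PF11

open Cfsg.Agent H43 Finset
open scoped Classical

universe u

variable {G : Type u} [Group G] [Fintype G]

section System

variable {L : Subgroup G} [Fintype L] {K W₁ W₂ : Subgroup L}
  {A : Set G} {R : G → Subgroup G}
  {χ : (↥(W₁.map L.subtype ⊔ W₂.map L.subtype) →* ℂˣ) → (G → ℂ)}

theorem exists_system (b : PF10.Base K W₁ W₂ A R χ) :
    ∃ R' : (L → ℂ) → Finset (G → ℂ),
      Cfsg.IsCoherenceSystem (Cfsg.inducedIrrAbove K ⊥) (Cfsg.dadeIsometry A L R) R' := by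
  haveI := b.K_normal
  obtain ⟨a, ha⟩ := b.X_nonempty
  obtain ⟨R', h, -⟩ := b.dadeHyp.exists_system b.family b.supp b.odd
    (S := Cfsg.inducedIrrAbove K ⊥) ⟨a, b.X_sub ha⟩
    (fun φ hφ => by
      rw [← PF6.coe_seqInd, mem_coe] at hφ ⊢
      exact PF6.seqInd_conj K hφ)
    (fun φ hφ => b.mem_bot_spec subset_rfl hφ)
  exact ⟨R', h⟩

/-- Coherence systems only see `τ` on the combinations vanishing at one. -/
theorem system_congr {S : Set (L → ℂ)} {τ τ' : (L → ℂ) → (G → ℂ)}
    {R' : (L → ℂ) → Finset (G → ℂ)} (h : Cfsg.IsCoherenceSystem S τ R')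
    (he : ∀ α ∈ Cfsg.zspanOn S ({1}ᶜ : Set L), τ α = τ' α) :
    Cfsg.IsCoherenceSystem S τ' R' := by
  obtain ⟨i1, i2, i3, i4⟩ := h.isometry
  refine { h with isometry := ?_, map_one := ?_, sum_eq := ?_ }
  · refine ⟨fun a ha c hc => ?_, fun a ha n => ?_, fun a ha c hc => ?_, fun a ha => ?_⟩
    · have hac : a + c ∈ Cfsg.zspanOn S ({1}ᶜ : Set L) :=
        ⟨Submodule.add_mem _ ha.1 hc.1, fun x hx => by
          rw [Pi.add_apply, ha.2 x hx, hc.2 x hx, add_zero]⟩
      rw [← he _ ha, ← he _ hc, ← he _ hac]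
      exact i1 a ha c hc
    · have hna : n • a ∈ Cfsg.zspanOn S ({1}ᶜ : Set L) :=
        ⟨Submodule.smul_mem _ n ha.1, fun x hx => by rw [Pi.smul_apply, ha.2 x hx, smul_zero]⟩
      rw [← he _ ha, ← he _ hna]
      exact i2 a ha n
    · rw [← he _ ha, ← he _ hc]
      exact i3 a ha c hc
    · rw [← he _ ha]
      exact i4 a ha
  · intro α hα
    rw [← he α hα]
    exact h.map_one α hα
  · intro φ hφ
    have hmem : φ - Cfsg.conjFun φ ∈ Cfsg.zspanOn S ({1}ᶜ : Set L) := by
      refine ⟨Submodule.sub_mem _ (Submodule.subset_span hφ)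
        (Submodule.subset_span (h.conj_mem φ hφ)), fun x hx => ?_⟩
      rw [Set.mem_compl_iff, not_not, Set.mem_singleton_iff] at hx
      subst hx
      obtain ⟨n, hn⟩ := CharBasic.IsChar.exists_degree (h.isCharacter φ hφ)
      simp [Cfsg.conjFun, hn]
    rw [← he _ hmem]
    exact h.sum_eq φ hφ

theorem coherent_congr {S : Set (L → ℂ)} {τ τ' : (L → ℂ) → (G → ℂ)}
    (h : Cfsg.IsCoherent S ({1}ᶜ : Set L) τ)
    (he : ∀ α ∈ Cfsg.zspanOn S ({1}ᶜ : Set L), τ α = τ' α) :
    Cfsg.IsCoherent S ({1}ᶜ : Set L) τ' := by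
  obtain ⟨hne, τ₁, h1, h2⟩ := h
  exact ⟨hne, τ₁, h1, fun α hα => (h2 α hα).trans (he α hα)⟩

/-- On class functions whose non-zero values have trivial attached subgroups the Dade map is
induction. -/
theorem dade_eq_indFun_on (hD : Cfsg.DadeHypothesis A L R) {α : L → ℂ}
    (hα : Cfsg.IsClassFunction L α) (hαA : ∀ x : L, (x : G) ∉ A → α x = 0)
    (hR : ∀ a : L, α a ≠ 0 → R (a : G) = ⊥) :
    Cfsg.dadeIsometry A L R α = Cfsg.indFun L α := by
  funext g
  by_cases hg : ∃ a : L, (a : G) ∈ A ∧ ∃ x : G, ∃ u ∈ R (a : G), x * g * x⁻¹ = (a : G) * u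
  · obtain ⟨a, ha, x, u, hu, hx⟩ := hg
    rw [H43.dade_apply hD hα ha hu hx]
    by_cases h0 : α a = 0
    · rw [h0, CharInduce.indFun_apply, Finset.sum_eq_zero fun y _ => ?_, mul_zero]
      by_cases h : y⁻¹ * g * y ∈ L
      · rw [CharInduce.extendByZero_of_mem _ h]
        by_contra hne
        have hA : y⁻¹ * g * y ∈ A := by
          by_contra hh
          exact hne (hαA ⟨_, h⟩ hh)
        have e2 := H43.dade_apply hD hα (a := (⟨_, h⟩ : L)) (g := g) hA (u := 1) (one_mem _)
          (x := y⁻¹) (by simp)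
        rw [H43.dade_apply hD hα ha hu hx, h0] at e2
        exact hne e2.symm
      · exact CharInduce.extendByZero_of_not_mem _ h
    · rw [hR a h0, Subgroup.mem_bot] at hu
      rw [hu, mul_one] at hx
      rw [← CharInduce.isClassFunction_indFun L α g x, hx]
      have key : ∀ y : G,
          Cfsg.extendByZero L α (y⁻¹ * (a : G) * y) = if y ∈ L then α a else 0 := by
        intro y
        split_ifs with hy
        · have := CharInduce.extendByZero_conj hα (inv_mem hy) (a : G)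
          rw [inv_inv, CharInduce.extendByZero_coe] at this
          exact this
        · by_cases h : y⁻¹ * (a : G) * y ∈ L
          · rw [CharInduce.extendByZero_of_mem _ h]
            refine hαA _ fun hA => hy ?_
            obtain ⟨l, hl, he⟩ := hD.fusion _ ha y⁻¹ (by rwa [inv_inv])
            rw [inv_inv] at he
            have hc : y * l ∈ Subgroup.centralizer ({(a : G)} : Set G) := by
              refine Subgroup.mem_centralizer_singleton_iff.2 ?_
              calc y * l * (a : G) = y * (l * a * l⁻¹) * l := by group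
                _ = y * (y⁻¹ * a * y) * l := by rw [he]
                _ = (a : G) * (y * l) := by group
            have hcL : y * l ∈ L := by
              have h' := hD.sup_eq _ ha
              rw [hR a h0, bot_sup_eq] at h'
              exact (h'.ge hc).1
            simpa using mul_mem hcL (inv_mem hl)
          · exact CharInduce.extendByZero_of_not_mem _ h
      simp only [CharInduce.indFun_apply, key]
      rw [← Finset.sum_filter, Finset.sum_const, nsmul_eq_mul, ← Fintype.card_subtype,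
        ← Nat.card_eq_fintype_card, ← mul_assoc,
        inv_mul_cancel₀ (CharInduce.card_ne_zero_complex _), one_mul]
  · rw [H43.dade_apply_zero hg, CharInduce.indFun_apply, Finset.sum_eq_zero fun x _ => ?_,
      mul_zero]
    by_cases h : x⁻¹ * g * x ∈ L
    · rw [CharInduce.extendByZero_of_mem _ h]
      exact hαA _ fun hA => hg ⟨⟨_, h⟩, hA, x⁻¹, 1, one_mem _, by simp⟩
    · exact CharInduce.extendByZero_of_not_mem _ h

/-- `K` nilpotent, and either not of prime power order or a `p`-group with `|W₁| ∣ p - 1`. -/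
theorem coherent_of_good (b : PF10.Base K W₁ W₂ A R χ) (hnil : Group.IsNilpotent K)
    (hgood : (¬ ∃ p m : ℕ, p.Prime ∧ Nat.card K = p ^ m) ∨
      ∃ p m : ℕ, p.Prime ∧ Nat.card K = p ^ m ∧ Nat.card W₁ ∣ p - 1) :
    Cfsg.IsCoherent (Cfsg.inducedIrrAbove K ⊥) ({1}ᶜ : Set L) (Cfsg.dadeIsometry A L R) := by
  haveI := b.K_normal
  haveI : ((⊥ : Subgroup L).subgroupOf K).Normal := inferInstance
  obtain ⟨R', hS⟩ := exists_system b
  have h := b.dadeHyp.prime
  obtain ⟨w, hw, hw1⟩ := W₁.bot_or_exists_ne_one.resolve_left h.ne_bot₁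
  have hKL : K < ⊤ := lt_top_iff_ne_top.2 fun e =>
    hw1 (h.mem_inf_iff (e ▸ Subgroup.mem_top w) hw)
  refine PF6.coherent_seqInd_chief b.solvable hS b.odd ⊥ bot_le inferInstance ⁅K, K⁆
    (sup_bot_eq _).symm b.derived_lt hKL (PF6.frob_derived h b.W₂_le) ?_
  rcases hgood with hh | ⟨p, m, hp, hm, hd⟩
  · refine Or.inr (Or.inr (Or.inl ?_))
    simpa only [Subgroup.relIndex_bot_left] using hh
  · refine Or.inr (Or.inr (Or.inr (Or.inr ⟨p, m, hp, ?_, ?_⟩)))
    · rw [Subgroup.relIndex_bot_left, hm]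
    · rwa [b.index_eq]

end System

section TypeV

variable {M : Subgroup G} [Fintype M] {W₁ U W₂ : Subgroup G}
  {A : Set G} {R : G → Subgroup G}
  {χ : (↥((W₁.subgroupOf M).map M.subtype ⊔ (W₂.subgroupOf M).map M.subtype) →* ℂˣ) → (G → ℂ)}

theorem derived_eq_core (hP : Cfsg.IsTypePWith M W₁ U W₂) (hU : U = ⊥) :
    ⁅M, M⁆ = Cfsg.fittingHallOf M := by
  refine le_antisymm (fun x hx => ?_) (TypeP.core_le_derived hP)
  obtain ⟨a, ha, c, hc, rfl⟩ := hP.U_compl.2.2.2 x hx
  rw [hU, Subgroup.mem_bot] at hc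
  rwa [hc, mul_one]

/-- For data of Type V, `S(M')` is coherent unless `|M'| = p³` and `|W₁| ∣ p + 1`. -/
theorem coherent_or_cube (hG : Cfsg.IsMinSimpleOddOrder G) (hM : IsCoatom M)
    (hP : Cfsg.IsTypePWith M W₁ U W₂) (hU : U = ⊥)
    (b : PF10.Base (⁅M, M⁆.subgroupOf M) (W₁.subgroupOf M) (W₂.subgroupOf M) A R χ)
    (hR : ∀ a : G, Subgroup.centralizer ({a} : Set G) ≤ M → R a = ⊥)
    (hp : (Nat.card W₂).Prime)
    (hV : Cfsg.IsTISubset (Cfsg.fittingHallOf M : Set G) ∨
      (∃ p : ℕ, p.Prime ∧ p ∣ Nat.card (Cfsg.fittingHallOf M) ∧ Nat.card W₁ ∣ p - 1 ∧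
        IsCyclic (Cfsg.pPrimeCore p (Cfsg.fittingHallOf M))) ∨
      (∃ p : ℕ, p.Prime ∧ p ∣ Nat.card (Cfsg.fittingHallOf M) ∧
        Nat.card (Cfsg.pCore p (Cfsg.fittingHallOf M)) = p ^ 3 ∧
        Nat.card W₁ ∣ p + 1 ∧ IsCyclic (Cfsg.pPrimeCore p (Cfsg.fittingHallOf M)))) :
    Cfsg.IsCoherent (Cfsg.inducedIrrAbove (⁅M, M⁆.subgroupOf M) ⊥) ({1}ᶜ : Set M)
        (Cfsg.dadeIsometry A M R) ∨
      ∃ p : ℕ, p.Prime ∧ Nat.card ↥⁅M, M⁆ = p ^ 3 ∧ Nat.card W₁ ∣ p + 1 := by
  have hder := derived_eq_core hP hU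
  have hnilH : Group.IsNilpotent ↥⁅M, M⁆ := by
    rw [hder]
    exact TypeP.core_nilpotent M
  have hnil : Group.IsNilpotent ↥(⁅M, M⁆.subgroupOf M) :=
    (Group.isNilpotent_congr (Subgroup.subgroupOfEquivOfLe (TypeP.derived_le M))).2 hnilH
  have hcK : Nat.card ↥(⁅M, M⁆.subgroupOf M) = Nat.card ↥⁅M, M⁆ :=
    Nat.card_congr (Subgroup.subgroupOfEquivOfLe (TypeP.derived_le M)).toEquiv
  have hcW : Nat.card (W₁.subgroupOf M) = Nat.card W₁ :=
    Nat.card_congr (Subgroup.subgroupOfEquivOfLe (TypeP.W₁_le hP)).toEquiv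
  by_cases hpp : ∃ s m : ℕ, s.Prime ∧ Nat.card ↥⁅M, M⁆ = s ^ m
  swap
  · exact Or.inl (coherent_of_good b hnil (Or.inl (by rw [hcK]; exact hpp)))
  obtain ⟨s, m, hs, hm⟩ := hpp
  have hsp : ∀ p : ℕ, p.Prime → p ∣ Nat.card (Cfsg.fittingHallOf M) → p = s := fun p hp' hd => by
    rw [← hder, hm] at hd
    exact (Nat.prime_dvd_prime_iff_eq hp' hs).1 (hp'.dvd_of_dvd_pow hd)
  rcases hV with hTI | ⟨p, hp', hd, hq, -⟩ | ⟨p, hp', hd, hc, hq, -⟩
  · -- a TI subset
    left
    rw [← hder] at hTI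
    obtain ⟨R', hS⟩ := exists_system b
    haveI := b.K_normal
    have hne : ⁅M, M⁆ ≠ ⊥ := fun e => hP.selfNormalizing.2.1 (le_bot_iff.1
      (e ▸ (TypeP.W₂_le_core hP).trans (TypeP.core_le_derived hP)))
    have he : ∀ α ∈ Cfsg.zspanOn (Cfsg.inducedIrrAbove (⁅M, M⁆.subgroupOf M) ⊥) ({1}ᶜ : Set M),
        Cfsg.dadeIsometry A M R α = Cfsg.indFun M α := by
      intro α hα
      obtain ⟨h1, h2⟩ := b.dadeHyp.span_vanish b.supp
        (fun φ hφ => b.mem_bot_spec subset_rfl hφ) hα.1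
      refine dade_eq_indFun_on b.dadeHyp.dade (H43.gen_isClassFunction h1) (fun x hx => ?_)
        fun a ha0 => hR a ?_
      · by_cases e : x = 1
        · exact hα.2 x (by simp [e])
        · exact h2 x e hx
      -- `α` vanishes off `M'`, a TI subset with normaliser `M`
      have ha1 : a ≠ 1 := fun e => ha0 (hα.2 a (by simp [e]))
      have haK : a ∈ ⁅M, M⁆.subgroupOf M := by
        by_contra hn
        refine ha0 ?_
        have hz := hα.1
        clear hα h1 h2 ha0
        induction hz using Submodule.span_induction with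
        | mem φ hφ =>
          obtain ⟨θ, -, -, -, rfl⟩ := hφ
          exact CharInduce.indFun_eq_zero_of_normal _ _ hn
        | zero => rfl
        | add c d _ _ hc hd => rw [Pi.add_apply, hc, hd, add_zero]
        | smul n c _ hc => rw [Pi.smul_apply, hc, smul_zero]
      intro g hg
      by_contra hgM
      refine ha1 (Subtype.ext (hTI g (fun hn => hgM ?_) a haK ?_))
      · rw [← normalizer_eq_max hG hM (TypeP.derived_le M) hne (TypeP.le_normalizer_derived M)]
        exact hn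
      · rw [Subgroup.mem_centralizer_singleton_iff.1 hg, mul_inv_cancel_right]
        exact haK
    refine coherent_congr ?_ fun α hα => (he α hα).symm
    refine PF6.sibley_prime (normalizer_eq_max hG hM (TypeP.derived_le M) hne
      (TypeP.le_normalizer_derived M)) hnilH (TypeP.derived_le M) hTI b.odd b.dadeHyp.prime ?_
      b.W₂_le (system_congr hS he)
    rwa [Nat.card_congr (Subgroup.subgroupOfEquivOfLe (TypeP.W₂_le hP)).toEquiv]
  · obtain rfl := hsp p hp' hd
    exact Or.inl (coherent_of_good b hnil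
      (Or.inr ⟨p, m, hp', hcK.trans hm, by rw [hcW]; exact hq⟩))
  · obtain rfl := hsp p hp' hd
    refine Or.inr ⟨p, hp', ?_, hq⟩
    have htop : Cfsg.pCore p (Cfsg.fittingHallOf M) = ⊤ := by
      rw [eq_top_iff]
      refine le_sSup ⟨inferInstance, IsPGroup.of_card (n := m) ?_⟩
      rw [Subgroup.card_top, ← hder, hm]
    rw [htop, Subgroup.card_top] at hc
    rw [hder]
    exact hc

end TypeV

end Cfsg.Agent.OddOrder.PF11
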