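import Cfsg.Agent.OddOrder.PF11.Tools
import Cfsg.Agent.OddOrder.PF10.Noncoherence
import Cfsg.Agent.OddOrder.PF11.TypeV
import Cfsg.Agent.OddOrder.PF12.Partition

/-!
# Peterfalvi section 11, Type V: the exceptional case `|M'| = r³`, `|W₁| ∣ r + 1`
-/

set_option autoImplicit false
set_option linter.unusedSectionVars false
set_option linter.style.haveILetI false

open scoped ComplexConjugate commutatorElement

namespace Cfsg.Agent.OddOrder.PF10

open Cfsg.Agent H43 Finset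
open scoped Classical

universe u

/-- A non-abelian group of order `r³` has derived subgroup of order `r`. -/
theorem card_commutator_of_cube {X : Type u} [Group X] [Finite X] {r : ℕ} (hr : r.Prime)
    (hX : Nat.card X = r ^ 3) (hne : commutator X ≠ ⊥) :
    Nat.card (commutator X) = r ∧ Nat.card (Subgroup.center X) = r := by
  haveI := Fact.mk hr
  have hP : IsPGroup r X := IsPGroup.of_card hX
  haveI : Nontrivial X := Finite.one_lt_card_iff_nontrivial.1
    (hX ▸ one_lt_pow₀ hr.one_lt (by norm_num))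
  have hab : ¬ IsCyclic (X ⧸ Subgroup.center X) := fun h => hne (by
    rw [eq_bot_iff, _root_.commutator_def, Subgroup.commutator_le]
    intro x _ y _
    rw [Subgroup.mem_bot, commutatorElement_eq_one_iff_mul_comm]
    exact commutative_of_cyclic_center_quotient (QuotientGroup.mk' (Subgroup.center X))
      (QuotientGroup.ker_mk' _).le x y)
  obtain ⟨k, hk3, hk⟩ := (Nat.dvd_prime_pow hr).1 (hX ▸ (Subgroup.center X).card_subgroup_dvd_card)
  have hk0 : k ≠ 0 := fun e => (hP.bot_lt_center).ne' (Subgroup.card_eq_one.1 (by rw [hk, e, pow_zero]))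
  have hidx : (Subgroup.center X).index = r ^ (3 - k) := by
    have h := (Subgroup.center X).card_mul_index
    rw [hk, hX, show r ^ 3 = r ^ k * r ^ (3 - k) by rw [← pow_add]; congr 1; omega] at h
    exact Nat.eq_of_mul_eq_mul_left (pow_pos hr.pos k) h
  have hk1 : k = 1 := by
    by_contra hne1
    refine hab ?_
    rcases (show k = 2 ∨ k = 3 by omega) with rfl | rfl
    · exact isCyclic_of_prime_card (p := r) (by rw [← Subgroup.index, hidx, pow_one])
    · haveI : Subsingleton (X ⧸ Subgroup.center X) :=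
        (Nat.card_eq_one_iff_unique.1 (by rw [← Subgroup.index, hidx]; simp)).1
      infer_instance
  subst hk1
  rw [pow_one] at hk
  refine ⟨?_, hk⟩
  have hcomm : commutator X ≤ Subgroup.center X := by
    have hq : Nat.card (X ⧸ Subgroup.center X) = r ^ 2 := by rw [← Subgroup.index, hidx]
    rw [_root_.commutator_def, Subgroup.commutator_le]
    intro x _ y _
    rw [← QuotientGroup.eq_one_iff]
    show QuotientGroup.mk' (Subgroup.center X) ⁅x, y⁆ = 1
    rw [map_commutatorElement, commutatorElement_eq_one_iff_mul_comm]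
    exact IsPGroup.commutative_of_card_eq_prime_sq hq _ _
  have hd := Subgroup.card_dvd_of_le hcomm
  rw [hk] at hd
  exact (hr.eq_one_or_self_of_dvd _ hd).resolve_left fun e => hne (Subgroup.card_eq_one.1 e)

variable {G : Type u} [Group G] [Fintype G] {L : Subgroup G} [Fintype L] {K W₁ W₂ : Subgroup L}
  {A : Set G} {R : G → Subgroup G}
  {χ : (↥(W₁.map L.subtype ⊔ W₂.map L.subtype) →* ℂˣ) → (G → ℂ)}

namespace Base

variable (b : Base K W₁ W₂ A R χ)

include b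

/-- `|K| = r³` and `|W₁| ∣ r + 1` make all of `S(K)` coherent. -/
theorem coherent_of_cube {r : ℕ} (hr : r.Prime) (hK : Nat.card K = r ^ 3)
    (hq : Nat.card W₁ ∣ r + 1) :
    Cfsg.IsCoherent (Cfsg.inducedIrrAbove K ⊥) ({1}ᶜ : Set L) (Cfsg.dadeIsometry A L R) := by
  haveI := b.K_normal
  haveI := b.derived_normal
  haveI := Fintype.ofFinite K
  -- orders
  have hmap : (commutator K).map K.subtype = ⁅K, K⁆ := Subgroup.map_subtype_commutator K
  have hcne : commutator K ≠ ⊥ := fun e => b.dadeHyp.prime.ne_bot₂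
    (le_bot_iff.1 (b.W₂_le.trans_eq (by rw [← hmap, e, Subgroup.map_bot])))
  obtain ⟨hc, hZ⟩ := card_commutator_of_cube hr hK hcne
  have hderc : Nat.card (⁅K, K⁆ : Subgroup L) = r := by
    rw [← hmap, Subgroup.card_map_of_injective K.subtype_injective, hc]
  have hW2 : Nat.card W₂ = r := by
    have hd := Subgroup.card_dvd_of_le b.W₂_le
    rw [hderc] at hd
    exact (hr.eq_one_or_self_of_dvd _ hd).resolve_left fun e =>
      b.dadeHyp.prime.ne_bot₂ (Subgroup.card_eq_one.1 e)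
  have hrel : (⁅K, K⁆ : Subgroup L).relIndex K = r ^ 2 := by
    have h := Subgroup.relIndex_mul_relIndex ⊥ ⁅K, K⁆ K bot_le (Subgroup.commutator_le_self K)
    rw [Subgroup.relIndex_bot_left, Subgroup.relIndex_bot_left, hderc, hK] at h
    exact Nat.eq_of_mul_eq_mul_left hr.pos (h.trans (by ring))
  have hlt : Nat.card W₁ < Nat.card W₂ := by
    rw [hW2]
    obtain ⟨m, hm⟩ := hq
    obtain ⟨hoq, hor, -, hr3⟩ := b.dadeHyp.card_facts
    rw [hW2] at hor hr3
    obtain ⟨i, hi⟩ := hor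
    obtain ⟨j, hj⟩ := hoq
    have hm2 : 2 ≤ m := by
      rcases (show m = 0 ∨ m = 1 ∨ 2 ≤ m by omega) with rfl | rfl | h
      · omega
      · omega
      · exact h
    nlinarith
  -- a pivot with exact `γ`
  obtain ⟨-, τ₁, hτ₁, hagree⟩ := b.X_coherent
  obtain ⟨ζ₀, hζ⟩ := b.X_nonempty
  have hsub : Cfsg.inducedIrrAbove K ⁅K, K⁆ ⊆ Cfsg.inducedIrrAbove K ⊥ := by
    rw [← PF6.coe_seqInd, ← PF6.coe_seqInd]
    exact coe_subset.2 (PF6.seqInd_mono K bot_le)
  have hXsub : (↑(X K) : Set (L → ℂ)) ⊆ Cfsg.inducedIrrAbove K ⁅K, K⁆ := by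
    rw [← PF6.coe_seqInd]
  have hp0 := b.pivot_of_coherent hτ₁ hagree hsub hXsub hζ
  obtain ⟨φ₀, hp, hx⟩ := b.exists_exact_of_lt hp0 hlt
  -- degrees
  choose deg hdpos hdeg hdvd hdvdZ using fun θ : IrrCharacter K => CharBasic.IsIrr.degree_dvd θ.2
  have hZidx : (Subgroup.center K).index = r ^ 2 := by
    have h := (Subgroup.center K).card_mul_index
    rw [hZ, hK] at h
    exact Nat.eq_of_mul_eq_mul_left hr.pos (h.trans (by ring))
  let th : (↥(W₁ ⊔ W₂) →* ℂˣ) → IrrCharacter K := fun ψ =>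
    ⟨b.dadeHyp.prime.theta ψ, b.dadeHyp.prime.theta_irr ψ⟩
  have hth_red : ∀ ψ, Cfsg.indFun K ((th ψ : IrrCharacter K) : K → ℂ) = b.dadeHyp.prime.red ψ :=
    fun ψ => rfl
  have hinj : Set.InjOn th (colSet W₁ W₂ : Set (↥(W₁ ⊔ W₂) →* ℂˣ)) := fun a ha c hc e =>
    b.dadeHyp.prime.red_inj (b.mem_colSet.1 ha).1 (b.mem_colSet.1 hc).1
      (by rw [← hth_red, ← hth_red, e])
  set S₀ := PF6.thetas K ⁅K, K⁆ with hS₀
  set S₁ := (colSet W₁ W₂).image th with hS₁
  have hdis : Disjoint S₀ S₁ := Finset.disjoint_right.2 fun θ hθ hθ0 => by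
    obtain ⟨ψ, hψ, rfl⟩ := mem_image.1 hθ
    exact b.dadeHyp.prime.red_not_irr ψ
      (b.X_irr ((PF6.mem_seqInd K).2 ⟨_, hθ0, hth_red ψ⟩)).1
  have hS₁sub : S₁ ⊆ PF6.thetas K ⊥ := by
    intro θ hθ
    obtain ⟨ψ, hψ, rfl⟩ := mem_image.1 hθ
    have hmem : b.dadeHyp.prime.red ψ ∈ PF6.seqInd K ⊥ := by
      rw [← mem_coe, PF6.coe_seqInd]
      exact b.red_mem hψ
    obtain ⟨θ', hθ', e⟩ := (PF6.mem_seqInd K).1 hmem
    exact PF6.mem_thetas_of_indFun_eq K hθ' (e.trans (hth_red ψ).symm)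
  have hU : S₀ ∪ S₁ ⊆ PF6.thetas K ⊥ := union_subset (PF6.thetas_mono K bot_le) hS₁sub
  have hge : ∀ θ ∈ S₁, r ≤ deg θ := by
    intro θ hθ
    obtain ⟨ψ, hψ, rfl⟩ := mem_image.1 hθ
    obtain ⟨d, hd, hqd⟩ := b.lt_mu_one hψ
    have e : deg (th ψ) = d := by
      have h1 : ((deg (th ψ) : ℕ) : ℂ) = (d : ℂ) := (hdeg (th ψ)).symm.trans hd
      exact_mod_cast h1
    obtain ⟨j, hj2, hj⟩ := (Nat.dvd_prime_pow hr).1 (hZidx ▸ hdvdZ (th ψ))
    have h3 := b.three_le
    have : j ≠ 0 := fun e0 => by rw [e0, pow_zero] at hj; omega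
    calc r = r ^ 1 := (pow_one r).symm
      _ ≤ r ^ j := Nat.pow_le_pow_right hr.pos (by omega)
      _ = deg (th ψ) := hj.symm
  -- the sums of squares
  have hs0 : ∑ θ ∈ S₀, deg θ ^ 2 + 1 = r ^ 2 := by
    have h := PF6.sum_thetas K (⁅K, K⁆ : Subgroup L)
    rw [hrel, sum_congr rfl (g := fun θ => ((deg θ ^ 2 : ℕ) : ℂ)) fun θ _ => by
      rw [hdeg]; push_cast; ring, ← Nat.cast_sum, eq_sub_iff_add_eq] at h
    exact_mod_cast h
  have hs : ∑ θ ∈ PF6.thetas K ⊥, deg θ ^ 2 + 1 = r ^ 3 := by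
    have h := PF6.sum_thetas K (⊥ : Subgroup L)
    rw [Subgroup.relIndex_bot_left, hK, sum_congr rfl (g := fun θ => ((deg θ ^ 2 : ℕ) : ℂ))
      fun θ _ => by rw [hdeg]; push_cast; ring, ← Nat.cast_sum, eq_sub_iff_add_eq] at h
    exact_mod_cast h
  have hc1 : S₁.card + 1 = r := by
    rw [hS₁, card_image_of_injOn hinj, b.card_colSet, hW2]
  have hs1 : S₁.card * r ^ 2 ≤ ∑ θ ∈ S₁, deg θ ^ 2 :=
    (le_of_eq (by rw [sum_const, smul_eq_mul])).trans
      (sum_le_sum fun θ hθ => Nat.pow_le_pow_left (hge θ hθ) 2)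
  have hsd := sum_sdiff (f := fun θ => deg θ ^ 2) hU
  rw [sum_union hdis] at hsd
  have e3 : r ^ 3 = (S₁.card + 1) * r ^ 2 := by rw [hc1]; ring
  rw [add_mul, one_mul] at e3
  have hrest : PF6.thetas K ⊥ \ (S₀ ∪ S₁) = ∅ := by
    rw [eq_empty_iff_forall_notMem]
    intro θ hθ
    have h1 : deg θ ^ 2 ≤ ∑ θ' ∈ PF6.thetas K ⊥ \ (S₀ ∪ S₁), deg θ' ^ 2 :=
      single_le_sum (f := fun θ => deg θ ^ 2) (fun _ _ => Nat.zero_le _) hθ
    have h2 : 0 < deg θ ^ 2 := pow_pos (hdpos θ) 2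
    omega
  have hle : ∀ θ ∈ S₁, deg θ ≤ r := by
    intro θ hθ
    by_contra hc'
    have h1 : ∑ θ' ∈ S₁, r ^ 2 < ∑ θ' ∈ S₁, deg θ' ^ 2 :=
      sum_lt_sum (fun θ' hθ' => Nat.pow_le_pow_left (hge θ' hθ') 2)
        ⟨θ, hθ, Nat.pow_lt_pow_left (by omega) two_ne_zero⟩
    rw [sum_const, smul_eq_mul] at h1
    omega
  -- the key equation on all members
  have hkey : ∀ a ∈ PF6.seqInd K (⊥ : Subgroup L), Key A R K ζ₀ φ₀ a := by
    intro a ha
    obtain ⟨θ, hθ, rfl⟩ := (PF6.mem_seqInd K).1 ha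
    have hθU : θ ∈ S₀ ∪ S₁ := by
      by_contra hn
      exact eq_empty_iff_forall_notMem.1 hrest θ (mem_sdiff.2 ⟨hθ, hn⟩)
    rcases mem_union.1 hθU with h0 | h1
    · exact b.key_X hp ((PF6.mem_seqInd K).2 ⟨θ, h0, rfl⟩)
    · obtain ⟨ψ, hψ, rfl⟩ := mem_image.1 h1
      rw [hth_red]
      refine b.key_red hp hx hψ fun n hn => b.n_le_card_X (d := deg (th ψ)) (hdeg (th ψ)) ?_ n hn
      rw [hrel]
      exact (hle _ h1).trans (Nat.le_self_pow two_ne_zero r)
  rw [← PF6.coe_seqInd]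
  refine b.coherent_of_key hp _ ?_ (PF6.seqInd_mono K bot_le) hkey
  rw [PF6.coe_seqInd]

end Base

end Cfsg.Agent.OddOrder.PF10

namespace Cfsg.Agent.OddOrder.PF11

open Cfsg.Agent H43 Finset
open scoped Classical

universe u

variable {G : Type u} [Group G] [Fintype G] {M : Subgroup G} [Fintype M] {W₁ U W₂ : Subgroup G}
  {A : Set G} {R : G → Subgroup G}
  {χ : (↥((W₁.subgroupOf M).map M.subtype ⊔ (W₂.subgroupOf M).map M.subtype) →* ℂˣ) → (G → ℂ)}

/-- The order bounds needed for non-coherence when `M'` is nilpotent. -/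
theorem nilpotent_big {L : Subgroup G} [Fintype L] {K V₁ V₂ : Subgroup L}
    {χ' : (↥(V₁.map L.subtype ⊔ V₂.map L.subtype) →* ℂˣ) → (G → ℂ)}
    (b : PF10.Base K V₁ V₂ A R χ') (hnil : Group.IsNilpotent K) :
    (2 * Nat.card V₁ + 1) * Nat.card V₂ ≤ Nat.card K ∧
      (Nat.card V₁ = 3 → 8 * Nat.card V₂ ≤ Nat.card K) := by
  haveI := b.K_normal
  set D := (⁅K, K⁆ : Subgroup L)
  have hV2 : Nat.card V₂ ≤ Nat.card D := Nat.le_of_dvd Nat.card_pos (Subgroup.card_dvd_of_le b.W₂_le)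
  have hKD : D.relIndex K * Nat.card D = Nat.card K := by
    have h := Subgroup.relIndex_mul_relIndex ⊥ D K bot_le (Subgroup.commutator_le_self K)
    rw [Subgroup.relIndex_bot_left, Subgroup.relIndex_bot_left] at h
    rw [mul_comm]; exact h
  have hX := b.card_X
  have h2 := b.two_le_card_X
  have hXn : (PF10.X K).card * Nat.card V₁ + 1 = D.relIndex K := by
    zify; linarith
  refine ⟨?_, fun h3 => ?_⟩
  · calc (2 * Nat.card V₁ + 1) * Nat.card V₂ ≤ D.relIndex K * Nat.card D :=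
          Nat.mul_le_mul (by nlinarith) hV2
      _ = Nat.card K := hKD
  · refine le_trans (Nat.mul_le_mul ?_ hV2) hKD.le
    rw [h3] at hXn
    by_contra hlt
    have h7 : D.relIndex K = 7 := by omega
    have hmap : (commutator K).map K.subtype = D := Subgroup.map_subtype_commutator K
    have hidx : (commutator K).index = 7 := by
      rw [← h7, ← hmap, Subgroup.relIndex, Subgroup.subgroupOf,
        Subgroup.comap_map_eq_self_of_injective K.subtype_injective]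
    haveI := hnil
    haveI := Fact.mk (by norm_num : Nat.Prime 7)
    have hcyc : IsCyclic (K ⧸ commutator K) := isCyclic_of_prime_card (p := 7) (by
      rw [← Subgroup.index, hidx])
    exact b.dadeHyp.prime.ne_bot₂ (le_bot_iff.1 (b.W₂_le.trans_eq (by
      show D = ⊥
      rw [← hmap, PF12.commutator_eq_bot_of_cyclic hcyc, Subgroup.map_bot])))

/-- No maximal subgroup is of Type V. -/
theorem not_typeV (hG : Cfsg.IsMinSimpleOddOrder G) (hM : IsCoatom M)
    (hP : Cfsg.IsTypePWith M W₁ U W₂) (hU : U = ⊥)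
    (b : PF10.Base (⁅M, M⁆.subgroupOf M) (W₁.subgroupOf M) (W₂.subgroupOf M) A R χ)
    (hR : ∀ a : G, Subgroup.centralizer ({a} : Set G) ≤ M → R a = ⊥)
    (hp : (Nat.card W₂).Prime)
    (hV : Cfsg.IsTISubset (Cfsg.fittingHallOf M : Set G) ∨
      (∃ p : ℕ, p.Prime ∧ p ∣ Nat.card (Cfsg.fittingHallOf M) ∧ Nat.card W₁ ∣ p - 1 ∧
        IsCyclic (Cfsg.pPrimeCore p (Cfsg.fittingHallOf M))) ∨
      (∃ p : ℕ, p.Prime ∧ p ∣ Nat.card (Cfsg.fittingHallOf M) ∧
        Nat.card (Cfsg.pCore p (Cfsg.fittingHallOf M)) = p ^ 3 ∧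
        Nat.card W₁ ∣ p + 1 ∧ IsCyclic (Cfsg.pPrimeCore p (Cfsg.fittingHallOf M))))
    {P : Set G} (hsub : H43.dadeSupp ((↑⁅M, M⁆ : Set G) \ {1}) R ⊆ P)
    (cv : PF10.Cover P W₁ W₂ (Nat.card W₂) (Nat.card W₁)) : False := by
  have e1 : (W₁.subgroupOf M).map M.subtype = W₁ :=
    Subgroup.map_subgroupOf_eq_of_le (TypeP.W₁_le hP)
  have e2 : (W₂.subgroupOf M).map M.subtype = W₂ :=
    Subgroup.map_subgroupOf_eq_of_le (TypeP.W₂_le hP)
  have eK : (⁅M, M⁆.subgroupOf M).map M.subtype = ⁅M, M⁆ :=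
    Subgroup.map_subgroupOf_eq_of_le (TypeP.derived_le M)
  have c1 : Nat.card (W₁.subgroupOf M) = Nat.card W₁ :=
    Nat.card_congr (Subgroup.subgroupOfEquivOfLe (TypeP.W₁_le hP)).toEquiv
  have c2 : Nat.card (W₂.subgroupOf M) = Nat.card W₂ :=
    Nat.card_congr (Subgroup.subgroupOfEquivOfLe (TypeP.W₂_le hP)).toEquiv
  have hnil : Group.IsNilpotent ↥(⁅M, M⁆.subgroupOf M) := by
    refine (Group.isNilpotent_congr (Subgroup.subgroupOfEquivOfLe (TypeP.derived_le M))).2 ?_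
    rw [derived_eq_core hP hU]
    exact TypeP.core_nilpotent M
  have hcoh : Cfsg.IsCoherent (Cfsg.inducedIrrAbove (⁅M, M⁆.subgroupOf M) ⊥) ({1}ᶜ : Set M)
      (Cfsg.dadeIsometry A M R) := by
    refine (coherent_or_cube hG hM hP hU b hR hp hV).elim id fun ⟨r, hr, hc, hd⟩ => ?_
    refine b.coherent_of_cube hr ?_ (c1.symm ▸ hd)
    rw [Nat.card_congr (Subgroup.subgroupOfEquivOfLe (TypeP.derived_le M)).toEquiv, hc]
  obtain ⟨hb1, hb2⟩ := nilpotent_big b hnil
  rw [c1, c2] at hb1 hb2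
  refine b.false_of_coherent hcoh (P := P) (by rwa [eK]) (p := Nat.card W₂) (q := Nat.card W₁)
    (by rw [e1, e2]; exact cv) ?_ c1 hb1 hb2
  exact c2 ▸ b.dadeHyp.card_facts.2.2.2

end Cfsg.Agent.OddOrder.PF11
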